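import Cfsg.Agent.Lib.OrthMax.TensorOO.Quad.PairRad

/-! A square-zero product map of the rank of a long element is a long element of the second factor. -/

set_option autoImplicit false
set_option linter.unusedSectionVars false
set_option linter.unusedVariables false
set_option linter.unusedSimpArgs false

namespace CfsgLib.TensorOO

open QuadraticMap CfsgLib.Geometry CfsgLib.OrthMax
open LinearMap (BilinForm)

variable {F V U W : Type*} [Field F] [Finite F] [AddCommGroup V] [Module F V] [AddCommGroup U] [Module F U]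
  [AddCommGroup W] [Module F W]
variable [FiniteDimensional F V] [FiniteDimensional F U] [FiniteDimensional F W]
variable {Q : QuadraticForm F V}

omit [Finite F] [FiniteDimensional F W] in
theorem exists_ker_of_pow_eq_zero [Nontrivial W] {f : Module.End F W} {n : ℕ} (hf : f ^ n = 0) :
    ∃ x, x ≠ 0 ∧ f x = 0 := by
  by_contra hno
  push Not at hno
  have hi : Function.Injective f := (injective_iff_map_eq_zero _).2 fun x hx => by_contra fun hne => hno x hne hx
  obtain ⟨x, hx⟩ := exists_ne (0 : W)
  have := LinearMap.congr_fun hf x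
  rw [Module.End.coe_pow, LinearMap.zero_apply] at this
  exact hx ((hi.iterate n) (by rw [this, iterate_map_zero]))

namespace Nice

variable {B : BilinForm F W} (hB : Nice B)

include hB

omit [Finite F] in
/-- A non-zero skew endomorphism has two independent images. -/
theorem exists_two_images {b : Module.End F W} (hsk : ∀ y y', B (b y) y' = - B y (b y')) (hb : b ≠ 0) :
    ∃ y₁ y₂, b y₁ ≠ 0 ∧ b y₂ ∉ Submodule.span F {b y₁} := by
  obtain ⟨y₀, hy₀⟩ : ∃ y, b y ≠ 0 := by
    by_contra hno
    push Not at hno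
    exact hb (LinearMap.ext hno)
  by_contra hno
  push Not at hno
  have hall := fun y => Submodule.mem_span_singleton.1 (hno y₀ y hy₀)
  choose φ hφ using hall
  have hself : ∀ y, φ y * B (b y₀) y = 0 := fun y => by
    have e := hsk y y
    rw [← hφ, map_smul, map_smul, LinearMap.smul_apply, smul_eq_mul, smul_eq_mul, hB.sym y] at e
    exact (mul_eq_zero.1 (show (2 : F) * (φ y * B (b y₀) y) = 0 by linear_combination e)).resolve_left hB.two
  obtain ⟨y₁, hy₁⟩ := hB.exists_one hy₀
  rw [hB.sym] at hy₁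
  have hφ1 : φ y₁ = 0 := by simpa [hy₁] using hself y₁
  have hφ0 : φ y₀ ≠ 0 := fun e => hy₀ (by rw [← hφ y₀, e, zero_smul])
  have h0 : B (b y₀) y₀ = 0 := (mul_eq_zero.1 (hself y₀)).resolve_left hφ0
  have e : b (y₀ + y₁) = b y₀ := by rw [map_add, ← hφ y₁, hφ1, zero_smul, add_zero]
  have hφs : φ (y₀ + y₁) = 1 := by
    have := hφ (y₀ + y₁)
    rw [e] at this
    exact smul_left_injective F hy₀ (this.trans (one_smul _ _).symm)
  simpa [hφs, map_add, h0, hy₁] using hself (y₀ + y₁)

end Nice

namespace TData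

variable {h : TData Q U W} [Nontrivial U] [Nontrivial W]

omit [Finite F] in
/-- Two independent `A w` fill twice the dimension. -/
theorem finrank_sup_A {x z : W} (hx : x ≠ 0) (hz : z ∉ Submodule.span F {x}) :
    Module.finrank F (h.A x ⊔ h.A z : Submodule F V) = 2 * Module.finrank F U := by
  have hz0 : z ≠ 0 := fun e => hz (e ▸ zero_mem _)
  have e := Submodule.finrank_sup_add_finrank_inf_eq (h.A x) (h.A z)
  rw [show h.A x ⊓ h.A z = ⊥ from eq_bot_iff.2 fun T hT => by
    obtain ⟨u, rfl⟩ := hT.2
    rw [Submodule.mem_bot]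
    by_contra hne
    refine hz (h.tp_mem_A_iff (fun e => hne ?_) hT.1)
    rw [e, LinearMap.flip_apply, map_zero, LinearMap.zero_apply], finrank_bot, h.finrank_A hx, h.finrank_A hz0] at e
  omega

/-- A product map whose square-zero part has the rank of a long element. -/
theorem pure_square_zero (hUW : Module.finrank F U < Module.finrank F W) (p : ℕ) [Fact p.Prime] [CharP F p]
    {g : V ≃ₗ[F] V} (hg : g ∈ orth Q) (hp : h.Pure g) {Y : Module.End F V} (hY : ∀ T, g T = T + Y T)
    (hY2 : Y * Y = 0) (hrk : Module.finrank F (LinearMap.range Y) = 2 * Module.finrank F U) :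
    ∃ x z x' z', h.IsoPair x z x' z' ∧ ∃ t : F, t ≠ 0 ∧ Y = t • h.lg x z 1 := by
  classical
  have h2 := h.h2
  have hY20 : ∀ T, Y (Y T) = 0 := fun T => LinearMap.congr_fun hY2 T
  obtain ⟨lam, S, e⟩ := hp
  obtain ⟨bl, bS⟩ := Pure.bij e
  have hpow : ∀ (n : ℕ) u y, h.tp ((lam ^ n) u) ((S ^ n) y) = h.tp u y + (n : F) • Y (h.tp u y) := by
    intro n u y
    induction n with
    | zero => simp
    | succ n ih =>
      rw [pow_succ', pow_succ', Module.End.mul_apply, Module.End.mul_apply, ← e, ih, hY, map_add, map_smul, hY20,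
        smul_zero, add_zero, Nat.cast_succ, add_smul, one_smul]
      abel
  have hp1 : ∀ u y, h.tp ((lam ^ p) u) ((S ^ p) y) = h.tp u y := fun u y => by
    rw [hpow, CharP.cast_eq_zero, zero_smul, add_zero]
  obtain ⟨y₀, hy₀⟩ := exists_ne (0 : W)
  have hSp : Function.Injective (S ^ p : Module.End F W) := by
    rw [Module.End.coe_pow]; exact bS.1.iterate p
  have hSy : (S ^ p) y₀ ≠ 0 := fun e' => hy₀ (hSp (by rw [e', map_zero]))
  obtain ⟨x₀, hx₀⟩ := h.gN.exists_one hSy
  set c := h.gW x₀ y₀ with hc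
  have hlp : ∀ u, (lam ^ p) u = c • u := fun u => by
    have := congrArg (h.c x₀) (hp1 u y₀)
    rwa [h.c_tp, h.c_tp, hx₀, one_smul] at this
  have hc0 : c ≠ 0 := fun ec => by
    obtain ⟨u, hu⟩ := exists_ne (0 : U)
    have := hlp u
    rw [ec, zero_smul, Module.End.coe_pow] at this
    exact hu ((bl.1.iterate p) (by rw [this, iterate_map_zero]))
  obtain ⟨r, hr⟩ : ∃ r : F, r ^ p = c :=
    (Finite.injective_iff_surjective.1 (frobenius_inj F p)) c
  have hr0 : r ≠ 0 := fun er => hc0 (by rw [← hr, er, zero_pow (Fact.out : p.Prime).ne_zero])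
  haveI : CharP (Module.End F U) p := charP_of_injective_algebraMap (algebraMap F (Module.End F U)).injective p
  haveI : CharP (Module.End F W) p := charP_of_injective_algebraMap (algebraMap F (Module.End F W)).injective p
  set a := r⁻¹ • lam - 1 with ha
  set b := r • S - 1 with hb
  have eab : ∀ u y, g (h.tp u y) = h.tp (u + a u) (y + b y) := fun u y => by
    rw [e]
    simp only [ha, hb, LinearMap.sub_apply, LinearMap.smul_apply, Module.End.one_apply, add_sub_cancel, map_smul,
      smul_smul, inv_mul_cancel₀ hr0, mul_inv_cancel₀ hr0, one_smul]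
  have hap : a ^ p = 0 := by
    rw [ha, sub_pow_char_of_commute _ (Commute.one_right _), one_pow, smul_pow, sub_eq_zero]
    exact LinearMap.ext fun u => by
      rw [LinearMap.smul_apply, hlp, inv_pow, hr, smul_smul, inv_mul_cancel₀ hc0, one_smul, Module.End.one_apply]
  have hSpe : ∀ y, c • (S ^ p) y = y := fun y => by
    obtain ⟨u, hu⟩ := exists_ne (0 : U)
    refine h.swap.tp_injective hu (show h.tp u (c • (S ^ p) y) = h.tp u y from ?_)
    rw [← hp1 u y, hlp, map_smul, map_smul, LinearMap.smul_apply]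
  have hbp : b ^ p = 0 := by
    rw [hb, sub_pow_char_of_commute _ (Commute.one_right _), one_pow, smul_pow, sub_eq_zero]
    exact LinearMap.ext fun y => by
      rw [LinearMap.smul_apply, hr, hSpe, Module.End.one_apply]
  have eY : ∀ u y, Y (h.tp u y) = h.tp (a u) y + h.tp u (b y) + h.tp (a u) (b y) := fun u y => by
    have := hY (h.tp u y)
    rw [eab] at this
    simp only [map_add, LinearMap.add_apply] at this
    linear_combination (norm := abel) -this
  obtain ⟨u₀, hu₀, hau₀⟩ := exists_ker_of_pow_eq_zero hap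
  obtain ⟨y₁, hy₁, hby₁⟩ := exists_ker_of_pow_eq_zero hbp
  have hb2 : ∀ y, b (b y) = 0 := fun y => h.swap.tp_injective hu₀ (show h.tp u₀ (b (b y)) = h.tp u₀ 0 from by
    have := hY20 (h.tp u₀ y)
    rw [eY, hau₀] at this
    simpa [eY, hau₀] using this)
  have ha2 : ∀ u, a (a u) = 0 := fun u => h.tp_injective hy₁ (show h.tp (a (a u)) y₁ = h.tp 0 y₁ from by
    have := hY20 (h.tp u y₁)
    rw [eY, hby₁] at this
    simpa [eY, hby₁] using this)
  have hab : a = 0 ∨ b = 0 := by
    by_contra hno
    push Not at hno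
    obtain ⟨u, hu⟩ : ∃ u, a u ≠ 0 := by
      by_contra h'; push Not at h'; exact hno.1 (LinearMap.ext h')
    obtain ⟨y, hy⟩ : ∃ y, b y ≠ 0 := by
      by_contra h'; push Not at h'; exact hno.2 (LinearMap.ext h')
    have := hY20 (h.tp u y)
    rw [eY, map_add, map_add, eY, eY, eY, ha2, hb2] at this
    simp only [map_zero, LinearMap.zero_apply, zero_add, add_zero] at this
    rw [← two_smul F, smul_eq_zero, or_iff_right h2] at this
    exact h.tp_ne_zero hu hy this
  rcases hab with ha0 | hb0
  swap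
  · exfalso
    obtain ⟨e₁, he₁⟩ := h.gN.exists_aniso
    have hsk0 : ∀ u u', h.fU (a u) u' + h.fU u (a u') + h.fU (a u) (a u') = 0 := fun u u' => by
      have := orth_polar hg (h.tp u e₁) (h.tp u' e₁)
      rw [eab, eab, hb0, h.pol, h.pol, LinearMap.zero_apply, add_zero, mul_left_inj' he₁] at this
      simp only [map_add, LinearMap.add_apply] at this
      linear_combination this
    have hsk : ∀ u u', h.fU (a u) u' = - h.fU u (a u') := fun u u' => by
      have e1 := hsk0 u (a u')
      rw [ha2] at e1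
      simp only [map_zero, add_zero] at e1
      linear_combination hsk0 u u' - e1
    have ha0 : a ≠ 0 := fun ha0 => by
      have : Y = 0 := h.ext_tp fun u y => by simp [eY, ha0, hb0]
      rw [this, LinearMap.range_zero, finrank_bot] at hrk
      have : 0 < Module.finrank F U := Module.finrank_pos
      omega
    obtain ⟨q₁, q₂, hq₁, hq₂⟩ := h.fN.exists_two_images hsk ha0
    have hle : h.swap.A (a q₁) ⊔ h.swap.A (a q₂) ≤ LinearMap.range Y := sup_le
      (by rintro _ ⟨y, rfl⟩; exact ⟨h.tp q₁ y, by simp [eY, hb0, TData.swap]⟩)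
      (by rintro _ ⟨y, rfl⟩; exact ⟨h.tp q₂ y, by simp [eY, hb0, TData.swap]⟩)
    have := Submodule.finrank_mono hle
    rw [finrank_sup_A (h := h.swap) hq₁ hq₂, hrk] at this
    omega
  obtain ⟨e₁, he₁⟩ := h.fN.exists_aniso
  have hsk0 : ∀ y y', h.gW (b y) y' + h.gW y (b y') + h.gW (b y) (b y') = 0 := fun y y' => by
    have := orth_polar hg (h.tp e₁ y) (h.tp e₁ y')
    rw [eab, eab, ha0, h.pol, h.pol, LinearMap.zero_apply, add_zero, mul_right_inj' he₁] at this
    simp only [map_add, LinearMap.add_apply] at this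
    linear_combination this
  have hsk : ∀ y y', h.gW (b y) y' = - h.gW y (b y') := fun y y' => by
    have e1 := hsk0 y (b y')
    rw [hb2] at e1
    simp only [map_zero, add_zero] at e1
    linear_combination hsk0 y y' - e1
  have hb0 : b ≠ 0 := fun hb0 => by
    have : Y = 0 := h.ext_tp fun u y => by simp [eY, ha0, hb0]
    rw [this, LinearMap.range_zero, finrank_bot] at hrk
    have : 0 < Module.finrank F U := Module.finrank_pos
    omega
  obtain ⟨q₁, q₂, hq₁, hq₂⟩ := h.gN.exists_two_images hsk hb0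
  set x := b q₁ with hxdef
  set z := b q₂ with hzdef
  have hiso : ∀ y y', h.gW (b y) (b y') = 0 := fun y y' => by
    rw [hsk, hb2, map_zero, neg_zero]
  obtain ⟨x', z', hpz⟩ : ∃ x' z', h.IsoPair x z x' z' := exists_duals (h := h) hq₁ (hiso q₁ q₁) (hiso q₂ q₂) (hiso q₁ q₂) hq₂
  have heq : h.A x ⊔ h.A z = LinearMap.range Y := Submodule.eq_of_le_of_finrank_le (sup_le
      (by rintro _ ⟨u, rfl⟩; exact ⟨h.tp u q₁, by simp [eY, ha0, hxdef]⟩)
      (by rintro _ ⟨u, rfl⟩; exact ⟨h.tp u q₂, by simp [eY, ha0, hzdef]⟩))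
    (by rw [finrank_sup_A hq₁ hq₂, hrk])
  have hby : ∀ y, b y = h.gW x' (b y) • x + h.gW z' (b y) • z := fun y => by
    obtain ⟨u, hu⟩ := exists_ne (0 : U)
    refine h.swap.tp_injective hu (show h.tp u (b y) = h.tp u _ from ?_)
    have hmem : h.tp u (b y) ∈ h.A x ⊔ h.A z := heq ▸ ⟨h.tp u y, by simp [eY, ha0]⟩
    obtain ⟨_, ⟨p₁, rfl⟩, _, ⟨p₂, rfl⟩, hs⟩ := Submodule.mem_sup.1 hmem
    simp only [LinearMap.flip_apply] at hs
    have c1 := congrArg (h.c x') hs
    have c2 := congrArg (h.c z') hs
    simp only [map_add, c_tp, h.g_sym x' x, h.g_sym x' z, h.g_sym z' x, h.g_sym z' z, hpz.ww', hpz.vw', hpz.wv',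
      hpz.vv', one_smul, zero_smul, add_zero, zero_add] at c1 c2
    rw [← hs, c1, c2, map_add, map_smul, map_smul, map_smul, map_smul,
      LinearMap.smul_apply, LinearMap.smul_apply]
  have hself : ∀ y, h.gW y (b y) = 0 := fun y => by
    have := hsk y y
    rw [h.g_sym] at this
    exact (mul_eq_zero.1 (show (2 : F) * h.gW y (b y) = 0 by linear_combination this)).resolve_left h2
  set t := h.gW z' (b x') with ht
  have hbx : b x' = t • z := by
    rw [hby x', hself x', zero_smul, zero_add]
  have hbz : b z' = -t • x := by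
    rw [hby z', hself z', zero_smul, add_zero]
    congr 1
    rw [ht, h.g_sym z' (b x'), hsk x' z', neg_neg]
  have hb' : ∀ y, b y = (-t) • (h.gW z y • x - h.gW x y • z) := fun y => by
    rw [hby y, h.g_sym x' (b y), h.g_sym z' (b y), hsk y x', hsk y z', hbx, hbz, map_smul, map_smul, h.g_sym y z,
      h.g_sym y x]
    simp only [smul_eq_mul]
    module
  refine ⟨x, z, x', z', hpz, -t, neg_ne_zero.2 fun et => hb0 (LinearMap.ext fun y => by simp [hb' y, et]), ?_⟩
  exact h.ext_tp fun u y => by
    simp [eY, ha0, hb' y, lg, P_apply]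

end TData

end CfsgLib.TensorOO
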