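import Cfsg.Agent.Lib.OrthMax.TensorOO.Full
import Cfsg.Agent.Lib.OrthMax.TensorOO.Norms

/-! The scalar dichotomy when the first factor has dimension at least four. -/

set_option autoImplicit false
set_option linter.unusedSectionVars false
set_option linter.unusedVariables false
set_option linter.unusedSimpArgs false

namespace CfsgLib.TensorOO

open QuadraticMap CfsgLib.Geometry CfsgLib.OrthMax
open CfsgLib.TensorSp (In)
open LinearMap (BilinForm)

variable {F V U W : Type*} [Field F] [Finite F] [AddCommGroup V] [Module F V] [AddCommGroup U] [Module F U]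
  [AddCommGroup W] [Module F W]
variable [FiniteDimensional F V] [FiniteDimensional F U] [FiniteDimensional F W]
variable {Q : QuadraticForm F V} {M : Subgroup (V ≃ₗ[F] V)}

namespace TData

variable {h : TData Q U W} [Nontrivial U] [Nontrivial W]

/-- Two orthogonal anisotropic vectors orthogonal to a hyperbolic pair. -/
theorem exists_aniso_pair (h4 : 4 ≤ Module.finrank F U) {z z' : U} (hz : h.fU z z = 0) (hz' : h.fU z' z' = 0)
    (hzz' : h.fU z z' = 1) : ∃ e f, (h.fU z e = 0 ∧ h.fU z' e = 0 ∧ h.fU e e ≠ 0) ∧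
      (h.fU z f = 0 ∧ h.fU z' f = 0 ∧ h.fU f f ≠ 0) ∧ h.fU e f = 0 := by
  have h2 := h.h2
  have hz'z : h.fU z' z = 1 := by rw [h.f_sym, hzz']
  have hp : h.fU (z + z') (z + z') ≠ 0 := by simp [hz, hz', hzz', hz'z, one_add_one_eq_two, h2]
  have hm : h.fU (z - z') (z - z') ≠ 0 := by
    simp only [map_sub, LinearMap.sub_apply, hz, hz', hzz', hz'z, zero_sub, sub_zero]
    intro e
    exact h2 (by linear_combination -e)
  set S1 := (⊤ : Submodule F U) ⊓ LinearMap.ker (h.fU (z + z'))
  have n1 : NdIn h.fU S1 := Nice.ndIn_inter h.fN (Nice.ndIn_top h.fN) Submodule.mem_top hp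
  have d1 : Module.finrank F S1 + 1 = Module.finrank F (⊤ : Submodule F U) :=
    Nice.finrank_inter (B := h.fU) (S := (⊤ : Submodule F U)) Submodule.mem_top hp
  have hmS : z - z' ∈ S1 := ⟨Submodule.mem_top, by simp [hz, hz', hzz', hz'z]⟩
  set S2 := S1 ⊓ LinearMap.ker (h.fU (z - z'))
  have n2 : NdIn h.fU S2 := Nice.ndIn_inter h.fN n1 hmS hm
  have d2 : Module.finrank F S2 + 1 = Module.finrank F S1 := Nice.finrank_inter (B := h.fU) hmS hm
  rw [finrank_top] at d1
  obtain ⟨e, he, hee⟩ := Nice.exists_aniso_nd h.fN n2 (by omega)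
  set S3 := S2 ⊓ LinearMap.ker (h.fU e)
  have n3 : NdIn h.fU S3 := Nice.ndIn_inter h.fN n2 he hee
  have d3 : Module.finrank F S3 + 1 = Module.finrank F S2 := Nice.finrank_inter (B := h.fU) he hee
  obtain ⟨f, hf, hff⟩ := Nice.exists_aniso_nd h.fN n3 (by omega)
  have key : ∀ x ∈ S2, h.fU z x = 0 ∧ h.fU z' x = 0 := fun x hx => by
    have a := hx.1.2
    have b := hx.2
    simp only [SetLike.mem_coe, LinearMap.mem_ker, map_add, map_sub, LinearMap.add_apply, LinearMap.sub_apply] at a b
    constructor <;> refine (mul_eq_zero.1 (?_ : (2 : F) * _ = 0)).resolve_left h2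
    · linear_combination a + b
    · linear_combination a - b
  exact ⟨e, f, ⟨(key e he).1, (key e he).2, hee⟩, ⟨(key f hf.1).1, (key f hf.1).2, hff⟩, hf.2⟩

/-- A symmetric endomorphism isotropic on all isotropic vectors is a scalar. -/
theorem sym_scalar4 (h4 : 4 ≤ Module.finrank F U) {S : Module.End F U} (hS : ∀ x y, h.fU (S x) y = h.fU x (S y))
    (h0 : ∀ z, h.fU z z = 0 → h.fU z (S z) = 0) : ∃ c : F, S = c • 1 := by
  have h2 := h.h2
  obtain ⟨z, -, hz0, hz⟩ := Nice.exists_iso_in h.fU (⊤ : Submodule F U) (by rw [finrank_top]; omega)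
  obtain ⟨z', hz', hzz'⟩ := h.fN.exists_partner hz0 hz
  have hs : ∀ x y, h.fU x (S y) = h.fU y (S x) := fun x y => by rw [← hS, h.f_sym]
  have hz'z : h.fU z' z = 1 := by rw [h.f_sym, hzz']
  have rel : ∀ p p' e, h.fU p p = 0 → h.fU p' p' = 0 → h.fU p p' = 1 → h.fU p e = 0 → h.fU p' e = 0 →
      2 * h.fU p (S e) = h.fU e e * h.fU e (S p') ∧ h.fU e (S e) = h.fU e e * h.fU p (S p') := by
    intro p p' e hp hp' hpp' hpe hp'e
    have key : ∀ t : F, 2 * t * h.fU p (S e) - t * t * h.fU e e * h.fU p (S p') + t * t * h.fU e (S e)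
        - t * t * t * h.fU e e * h.fU e (S p') = 0 := fun t => by
      have := h0 (p + t • e + (-(t * t * h.fU e e / 2)) • p') (by
        simp only [map_add, map_smul, LinearMap.add_apply, LinearMap.smul_apply, smul_eq_mul, hp, hp', hpp', hpe,
          hp'e, h.f_sym e p, h.f_sym p' p, h.f_sym e p']
        field_simp
        ring)
      simp only [map_add, map_smul, LinearMap.add_apply, LinearMap.smul_apply, smul_eq_mul, h0 p hp, h0 p' hp',
        hs e p, hs p' p, hs p' e] at this
      field_simp at this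
      refine mul_left_cancel₀ (mul_ne_zero h2 h2) ?_
      linear_combination this
    have a := key 1
    have b := key (-1)
    constructor <;> refine mul_left_cancel₀ h2 ?_
    · linear_combination a - b
    · linear_combination a + b
  obtain ⟨a, b, ⟨za, za', haa⟩, ⟨zb, zb', hbb⟩, hab⟩ := exists_aniso_pair h4 hz hz' hzz'
  have half : ∀ p p', h.fU p p = 0 → h.fU p' p' = 0 → h.fU p p' = 1 → h.fU p a = 0 → h.fU p' a = 0 →
      h.fU p b = 0 → h.fU p' b = 0 → ∀ e, h.fU p e = 0 → h.fU p' e = 0 → h.fU e (S p') = 0 := by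
    intro p p' hp hp' hpp' hpa hpa' hpb hpb'
    have key : ∀ e f, h.fU p e = 0 → h.fU p' e = 0 → h.fU p f = 0 → h.fU p' f = 0 → h.fU e f = 0 →
        h.fU f f * h.fU e (S p') = 0 := fun e f pe pe' pf pf' hef => by
      have r1 := (rel p p' (e + f) hp hp' hpp' (by rw [map_add, pe, pf, add_zero])
        (by rw [map_add, pe', pf', add_zero])).1
      have r2 := (rel p p' (e - f) hp hp' hpp' (by rw [map_sub, pe, pf, sub_zero])
        (by rw [map_sub, pe', pf', sub_zero])).1
      have r3 := (rel p p' e hp hp' hpp' pe pe').1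
      simp only [map_add, map_sub, LinearMap.add_apply, LinearMap.sub_apply, hef, h.f_sym f e] at r1 r2
      refine mul_left_cancel₀ h2 ?_
      linear_combination (2 : F) * r3 - r1 - r2
    have hMa := (mul_eq_zero.1 (key a b hpa hpa' hpb hpb' hab)).resolve_left hbb
    intro e pe pe'
    have := key (e - (h.fU a e / h.fU a a) • a) a (by simp [pe, hpa]) (by simp [pe', hpa']) hpa hpa' (by
      rw [h.f_sym]
      simp
      field_simp
      ring)
    simpa [haa, hMa] using this
  have hL : ∀ e, h.fU z e = 0 → h.fU z' e = 0 → h.fU z (S e) = 0 ∧ h.fU z' (S e) = 0 := fun e he he' =>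
    ⟨(hs z e).trans (half z' z hz' hz hz'z za' za zb' zb e he' he),
      (hs z' e).trans (half z z' hz hz' hzz' za za' zb zb' e he he')⟩
  set c := h.fU z (S z') with hc
  refine ⟨c, LinearMap.ext fun x => h.ext_f fun y => ?_⟩
  have hdiag : ∀ v, h.fU v (S v) = c * h.fU v v := fun v => by
    set e := v - h.fU z' v • z - h.fU z v • z' with he
    have h1 : h.fU z e = 0 := by simp [he, hz, hzz']
    have h1' : h.fU z' e = 0 := by simp [he, hz', hz'z]
    obtain ⟨k1, k2⟩ := hL e h1 h1'
    have k3 := (rel z z' e hz hz' hzz' h1 h1').2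
    rw [show v = e + h.fU z' v • z + h.fU z v • z' by rw [he]; abel]
    simp only [map_add, map_smul, LinearMap.add_apply, LinearMap.smul_apply, smul_eq_mul, k3, k1, k2, h0 z hz,
      h0 z' hz', hs e z, hs e z', hs z' z, hz, hz', hzz', hz'z, h.f_sym e z, h.f_sym e z', h1, h1', hc]
    ring
  have e1 := hdiag (y + x)
  simp only [map_add, LinearMap.add_apply, hdiag y, hdiag x, hs x y, h.f_sym x y] at e1
  simp only [LinearMap.smul_apply, Module.End.one_apply, map_smul, smul_eq_mul]
  refine mul_left_cancel₀ h2 ?_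
  linear_combination e1

variable (hG : h.Gens M) (h5 : 5 ≤ Module.finrank F W)

include hG h5

/-- A non-scalar member has a value on an isotropic vector. -/
theorem exists_test4 (h4 : 4 ≤ Module.finrank F U)
    (hshape : 6 ≤ Module.finrank F U ∨
      ∀ z p : U, z ≠ 0 → h.fU z z = 0 → h.fU p p = 0 → h.fU z p = 0 → p ∈ Submodule.span F {z})
    {D : Module.End F U} (hD : h.InD M D) (hns : ∀ s : F, D ≠ s • 1) :
    ∃ E z, h.InD M E ∧ h.fU z z = 0 ∧ h.fU z (E z) ≠ 0 := by
  classical
  by_contra hno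
  push Not at hno
  have h2 := h.h2
  have hsum : ∀ E, h.InD M E → ∃ c : F, E + h.adj E = c • 1 := fun E hE =>
    sym_scalar4 h4 (fun x y => by simp [adj_spec, ← h.adj_spec', add_comm])
      fun z hz => hno _ z (hE.add hG h5 (hE.adj' hG h5)) hz
  let K : Module.End F U → Prop := fun T => h.InD M T ∧ h.adj T = -T
  have hsq : ∀ T, K T → ∃ c : F, T * T = c • 1 := fun T ⟨hT, hTa⟩ => by
    obtain ⟨c, hc⟩ := hsum _ (hT.mul hG h5 hT)
    rw [adj_mul, hTa, neg_mul_neg, ← two_smul F] at hc
    exact ⟨2⁻¹ * c, by rw [mul_smul, ← hc, inv_smul_smul₀ h2]⟩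
  have hskew : ∀ T, K T → ∀ x y, h.fU (T x) y = - h.fU x (T y) := fun T hT x y => by
    rw [← h.adj_spec', hT.2]; simp
  have hself : ∀ T, K T → ∀ x, h.fU x (T x) = 0 := fun T hT x => by
    have := hskew T hT x x
    rw [h.f_sym] at this
    exact (mul_eq_zero.1 (show (2 : F) * h.fU x (T x) = 0 by linear_combination this)).resolve_left h2
  have hN : ∀ T, K T → ∀ z p, h.fU z z = 0 → h.fU p p = 0 → h.fU z p = 0 → h.fU p (T z) ≠ 0 →
      K (h.rk z p - h.rk p z) := fun T hT z p hz hp hzp hne => by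
    refine ⟨?_, by rw [adj_sub, adj_rk, adj_rk, neg_sub]⟩
    have := ((((hT.1.conjU hG h5 hz hzp).add hG h5 (hT.1.conjU hG h5 hz (a := -p) (by rw [map_neg, hzp, neg_zero]))).sub
        hG h5 hT.1).sub hG h5 hT.1).smul hG h5 ((-2 : F) * h.fU p (T z))⁻¹
    refine Eq.subst (motive := fun X => h.InD M X) ?_ this
    rw [inv_smul_eq_iff₀ (mul_ne_zero (neg_ne_zero.2 h2) hne)]
    have hzTp : h.fU z (T p) = - h.fU p (T z) := by rw [h.f_sym p (T z), hskew T hT z p, neg_neg]
    refine LinearMap.ext fun u => ?_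
    simp only [LinearMap.smul_apply, LinearMap.sub_apply, LinearMap.add_apply, Module.End.mul_apply, shU_apply,
      map_neg, LinearMap.neg_apply, neg_neg, map_add, map_sub, map_smul, rk_apply, hp, smul_eq_mul, hzTp,
      hself T hT z, hself T hT p]
    match_scalars <;> field_simp <;> ring
  have h3 : 3 ≤ Module.finrank F U := by omega
  have hzero : ∀ T, K T → T = 0 := by
    intro T hT
    by_contra hT0
    by_cases hex : ∃ z p, h.fU z z = 0 ∧ h.fU p p = 0 ∧ h.fU z p = 0 ∧ h.fU p (T z) ≠ 0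
    · obtain ⟨z, p, hz, hp, hzp, hne⟩ := hex
      have hz0 : z ≠ 0 := fun e => hne (by rw [e, map_zero, map_zero])
      have hpn : p ∉ Submodule.span F {z} := fun hm => hne (by
        obtain ⟨s, rfl⟩ := Submodule.mem_span_singleton.1 hm
        rw [map_smul, LinearMap.smul_apply, hself T hT, smul_zero])
      have h6 := hshape.resolve_right fun hw => hpn (hw z p hz0 hz hp hzp)
      obtain ⟨p', hp', hpp', hzp'⟩ := h.fN.exists_partner_perp hp hzp hpn
      have hzn : z ∉ Submodule.span F {p} := fun hm => hpn (by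
        obtain ⟨s, hs⟩ := Submodule.mem_span_singleton.1 hm
        have hs0 : s ≠ 0 := fun e => hz0 (by rw [← hs, e, zero_smul])
        exact Submodule.mem_span_singleton.2 ⟨s⁻¹, by rw [← hs, smul_smul, inv_mul_cancel₀ hs0, one_smul]⟩)
      obtain ⟨x, hx, hzx, hpx⟩ := h.fN.exists_partner_perp hz (by rw [h.f_sym, hzp]) hzn
      set z' := x - h.fU x p' • p with hz'def
      have hsy := h.f_sym
      have z1 : h.fU z' z' = 0 := by simp [hz'def, hx, hp, hpx, hsy x p]
      have z2 : h.fU z z' = 1 := by simp [hz'def, hzx, hzp]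
      have z3 : h.fU p z' = 0 := by simp [hz'def, hpx, hp]
      have z4 : h.fU z' p' = 0 := by simp [hz'def, hpp']
      have hpz : h.fU p z = 0 := by rw [hsy, hzp]
      have hKN := hN T hT z p hz hp hzp hne
      have hKN' := hN _ hKN z' p' z1 hp' z4 (by
        simp [rk_apply, hsy p' z, hzp', hsy p' p, hpp', z3, z2])
      obtain ⟨c, hc⟩ := hsq _ ⟨hKN.1.add hG h5 hKN'.1, by rw [adj_add, hKN.2, hKN'.2]; abel⟩
      obtain ⟨e, he, he0⟩ : ∃ e, e ∈ (LinearMap.ker (h.fU z) ⊓ LinearMap.ker (h.fU p)) ⊓ LinearMap.ker (h.fU z') ⊓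
          LinearMap.ker (h.fU p') ∧ e ≠ 0 := Submodule.exists_mem_ne_zero_of_ne_bot fun e => by
        have := congrArg (fun S : Submodule F U => Module.finrank F S) e
        have a := Nice.finrank_ker_two (B := h.fU) z p
        have b := Nice.finrank_ker_inf (LinearMap.ker (h.fU z) ⊓ LinearMap.ker (h.fU p)) (h.fU z')
        have d := Nice.finrank_ker_inf (LinearMap.ker (h.fU z) ⊓ LinearMap.ker (h.fU p) ⊓ LinearMap.ker (h.fU z')) (h.fU p')
        simp only [finrank_bot] at this
        omega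
      obtain ⟨⟨⟨e1, e2⟩, e3⟩, e4⟩ := he
      simp only [SetLike.mem_coe, LinearMap.mem_ker] at e1 e2 e3 e4
      have a := LinearMap.congr_fun hc e
      have hc0 : c = 0 := by
        simp [Module.End.mul_apply, rk_apply, e1, e2, e3, e4, he0] at a
        exact (smul_eq_zero.1 a.symm).resolve_right he0
      have b := congrArg (h.fU z') (LinearMap.congr_fun hc z)
      simp [Module.End.mul_apply, rk_apply, hz, hp, hzp, hpz, hp', z1, z2, z3, z4, hpp', hzp', hsy p' z, hsy z' z,
        hsy p' p, hsy z' p, hsy p' z', hc0] at b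
    push Not at hex
    obtain ⟨c, hc⟩ := hsq T hT
    have heig : ∀ z, h.fU z z = 0 → T z ∈ Submodule.span F {z} := fun z hz => by
      by_cases hz0 : z = 0
      · simp [hz0]
      rcases hshape with h6 | hw
      · refine h.fN.mem_span_of_perp fun y hy => ?_
        exact h.fN.mem_of_iso (by omega) hz0 hz (LinearMap.ker (h.fU (T z)))
          (fun v hzv hv => LinearMap.mem_ker.2 (by rw [h.f_sym]; exact hex z v hz hv hzv))
          (by rw [h.f_sym, hy]) |> fun hk => (h.f_sym y (T z)).trans (LinearMap.mem_ker.1 hk)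
      · refine hw z (T z) hz0 hz ?_ (hself T hT z)
        rw [hskew T hT, ← Module.End.mul_apply, hc]
        simp [hz]
    refine hT0 (LinearMap.ext fun x => LinearMap.mem_ker.1 (h.fN.span_iso h3 (LinearMap.ker T) (fun z hz => ?_) x))
    rw [LinearMap.mem_ker]
    by_cases hz0 : z = 0
    · rw [hz0, map_zero]
    obtain ⟨z', hz', hzz'⟩ := h.fN.exists_partner hz0 hz
    obtain ⟨e, f, ⟨hze, hz'e, hee⟩, -, -⟩ := exists_aniso_pair h4 hz hz' hzz'
    set y := z + e + (-(h.fU e e / 2)) • z' with hy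
    have hy0 : h.fU y y = 0 := by
      simp [hy, hz, hz', hze, hz'e, hzz', h.f_sym e z, h.f_sym e z', h.f_sym z' z]
      field_simp
      ring
    obtain ⟨t, ht⟩ := Submodule.mem_span_singleton.1 (heig z hz)
    obtain ⟨t', ht'⟩ := Submodule.mem_span_singleton.1 (heig z' hz')
    obtain ⟨s, hs⟩ := Submodule.mem_span_singleton.1 (heig y hy0)
    have r1 := hskew T hT z z'
    have r2 := hskew T hT z y
    have r3 := hskew T hT z' y
    have hzy : h.fU z y = -(h.fU e e / 2) := by simp [hy, hz, hze, hzz']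
    have hz'y : h.fU z' y = 1 := by simp [hy, hz', hz'e, h.f_sym z' z, hzz']
    rw [← ht, ← ht', map_smul, map_smul, LinearMap.smul_apply, hzz', smul_eq_mul, smul_eq_mul] at r1
    rw [← ht, ← hs, map_smul, map_smul, LinearMap.smul_apply, hzy, smul_eq_mul, smul_eq_mul] at r2
    rw [← ht', ← hs, map_smul, map_smul, LinearMap.smul_apply, hz'y, smul_eq_mul, smul_eq_mul] at r3
    have r2'' : t + s = 0 := by field_simp at r2; linear_combination -r2
    rw [← ht, show t = 0 from (mul_eq_zero.1 (show (2 : F) * t = 0 by linear_combination r1 + r2'' - r3)).resolve_left h2,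
      zero_smul]
  obtain ⟨c, hc⟩ := hsum D hD
  have hT := hzero (D - h.adj D) ⟨hD.sub hG h5 (hD.adj' hG h5), by simp⟩
  refine hns (2⁻¹ * c) ?_
  rw [sub_eq_zero] at hT
  rw [← hT, ← two_smul F] at hc
  rw [mul_smul, ← hc, inv_smul_smul₀ h2]

/-- The square of an isotropic vector. -/
theorem exists_rk4 (h4 : 4 ≤ Module.finrank F U) {E : Module.End F U} (hE : h.InD M E) {z : U}
    (hz : h.fU z z = 0) (hzE : h.fU z (E z) ≠ 0) : h.InD M (h.rk z z) := by
  have h2 := h.h2
  have hz0 : z ≠ 0 := fun e => hzE (by rw [e, map_zero, LinearMap.zero_apply])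
  obtain ⟨z', hz', hzz'⟩ := h.fN.exists_partner hz0 hz
  obtain ⟨a, b, ⟨za, -, haa⟩, ⟨zb, -, hbb⟩, hab⟩ := exists_aniso_pair h4 hz hz' hzz'
  have ev : ∀ v : U, h.fU z v = 0 → h.InD M (h.shU z v * E * h.shU z (-v) + h.shU z (-v) * E * h.shU z v
      - E - E) := fun v hv => by
    have := hE.conjU hG h5 hz (a := -v) (by rw [map_neg, hv, neg_zero])
    rw [neg_neg] at this
    exact (((hE.conjU hG h5 hz hv).add hG h5 this).sub hG h5 hE).sub hG h5 hE
  have hne : (2 : F) * (h.fU a a * h.fU b b) * h.fU z (E z) ≠ 0 :=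
    mul_ne_zero (mul_ne_zero h2 (mul_ne_zero haa hbb)) hzE
  have := (((ev (a + b) (by rw [map_add, za, zb, add_zero])).add hG h5
    (ev (a - b) (by rw [map_sub, za, zb, sub_zero]))).sub hG h5
    (((ev a za).add hG h5 (ev b zb)).smul hG h5 (2 : F))).smul hG h5
      ((2 : F) * (h.fU a a * h.fU b b) * h.fU z (E z))⁻¹
  refine Eq.subst (motive := fun X => h.InD M X) ?_ this
  rw [inv_smul_eq_iff₀ hne]
  refine LinearMap.ext fun u => ?_
  simp only [LinearMap.smul_apply, LinearMap.sub_apply, LinearMap.add_apply, Module.End.mul_apply, shU_apply,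
    map_neg, LinearMap.neg_apply, map_add, map_sub, map_smul, rk_apply, smul_eq_mul, h.f_sym b a, hab]
  match_scalars <;> field_simp <;> ring

/-- Either all members are scalar, or everything. -/
theorem top_or_scal4 (h4 : 4 ≤ Module.finrank F U)
    (hshape : 6 ≤ Module.finrank F U ∨
      ∀ z p : U, z ≠ 0 → h.fU z z = 0 → h.fU p p = 0 → h.fU z p = 0 → p ∈ Submodule.span F {z}) :
    siegelGroup Q ≤ M ∨ h.Scal M := by
  refine or_iff_not_imp_right.2 fun hns => ?_
  simp only [Scal, not_forall] at hns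
  obtain ⟨D, hD, hDn⟩ := hns
  push Not at hDn
  obtain ⟨E, z, hE, hz, hzE⟩ := exists_test4 hG h5 h4 hshape hD hDn
  have hz0 : z ≠ 0 := fun e => hzE (by rw [e, map_zero, LinearMap.zero_apply])
  have hall := all_rk hG h5 (by omega) hz0 hz (exists_rk4 hG h5 h4 hE hz hzE)
  obtain ⟨w, -, hw0, hw⟩ := Nice.exists_iso_in h.gW (⊤ : Submodule F W) (by rw [finrank_top]; omega)
  obtain ⟨w', hw', hww'⟩ := h.gN.exists_partner hw0 hw
  have hw'0 : w' ≠ 0 := fun e => by rw [e, map_zero] at hww'; exact zero_ne_one hww'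
  obtain ⟨z', hz'⟩ := h.fN.exists_one hz0
  exact siegelGroup_le_of_full h.qnd (h.Q_tp_zero z' hw') (h.Q_tp_zero z hw)
    (by rw [h.pol, hz', h.g_sym, hww', one_mul]) (full_tp hG h5 hall hw'0 hw') (full_tp hG h5 hall hw0 hw)

end TData

end CfsgLib.TensorOO
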