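import Cfsg.Agent.Lib.ThreeTransp.QuadPairThm
import Cfsg.Agent.Lib.ThreeTransp.QuadUnip
import Cfsg.Agent.Lib.PSL2.DicksonGen

/-!
Two square-zero families: either they generate a unipotent group, or the group contains an involution
which is minus one on a part of the space where the first endomorphism has full rank.
-/

set_option autoImplicit false
set_option linter.unusedSectionVars false
set_option linter.unusedVariables false

namespace CfsgLib.QuadPair

open Polynomial CfsgLib.ThreeTransp

variable {k : Type*} [Field k] [Finite k] {M : Type*} [AddCommGroup M] [Module k M] [FiniteDimensional k M]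

local notation "GLM" => LinearMap.GeneralLinearGroup k M
local notation "EndM" => Module.End k M

/-- A nilpotent anticommutator gives a group of elements of prime-power order. -/
theorem pH_pow {a b : EndM} (ha : a * a = 0) (hb : b * b = 0) (hz : IsNilpotent (a * b + b * a))
    (p : ℕ) [Fact p.Prime] [CharP k p] {g : GLM} (hg : g ∈ pH a b) : ∃ j : ℕ, g ^ p ^ j = 1 := by
  obtain ⟨N, hN⟩ := hz
  have hbot : wSpan a b ^ (2 * N + 1) = ⊥ := le_bot_iff.1 ((pow_odd_le ha hb N).1.trans (by simp [hN]))
  have hU := pH_udif_mem ha hb hg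
  have hpow : ∀ i : ℕ, udif g ^ (i + 1) ∈ wF a b (i + 1) := by
    intro i
    induction i with
    | zero => simpa using hU
    | succ i ih => rw [pow_succ]; exact wF_mul_mem ih hU le_rfl
  have hnil : udif g ^ (2 * N + 1) = 0 := by
    have := hpow (2 * N)
    rwa [wF_eq_bot hbot, Submodule.mem_bot] at this
  refine ⟨2 * N + 1, Units.ext ?_⟩
  rcases subsingleton_or_nontrivial M with h | h
  · exact LinearMap.ext fun m => Subsingleton.elim _ _
  haveI : CharP EndM p := charP_of_injective_algebraMap (algebraMap k EndM).injective p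
  have e : (g : EndM) = 1 + udif g := by rw [udif, add_sub_cancel]
  rw [Units.val_pow_eq_pow_val, e, add_pow_char_pow_of_commute p (2 * N + 1) (Commute.one_left _), one_pow,
    pow_eq_zero_of_le (Nat.lt_pow_self (Fact.out : p.Prime).one_lt).le hnil, add_zero, Units.val_one]

variable {K : Type*} [Field K] [Algebra k K] [FiniteDimensional k K]

/-- The two root groups give an element of even order. -/
theorem exists_even (h2 : (2 : k) ≠ 0) {α : K} (hα : α ≠ 0) (hgen : Algebra.adjoin k ({α} : Set K) = ⊤) :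
    ∃ g ∈ pairGroup k α, Even (orderOf g) := by
  classical
  haveI : Finite K := Module.finite_of_finite k
  haveI := Fintype.ofFinite K
  have h2K : (2 : K) ≠ 0 := fun h => h2 ((algebraMap k K).injective (by rw [map_ofNat, h, map_zero]))
  have hne : (-1 : Matrix.SpecialLinearGroup (Fin 2) K) ≠ 1 := fun h => h2K (by
    have := congrFun (congrFun (congrArg Subtype.val h) 0) 0
    simp at this
    linear_combination -this)
  have horder : orderOf (-1 : Matrix.SpecialLinearGroup (Fin 2) K) = 2 :=
    orderOf_eq_prime (by rw [neg_one_sq]) hne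
  suffices hneg : (-1 : Matrix.SpecialLinearGroup (Fin 2) K) ∈ pairGroup k α from
    ⟨-1, hneg, by rw [horder]; exact even_two⟩
  by_cases h3 : Nat.card k = 3
  swap
  · rw [pairGroup_eq_top h2K h3 hα hgen]; exact Subgroup.mem_top _
  haveI := Fintype.ofFinite k
  have h3k : (3 : k) = 0 := by
    rw [← Nat.cast_ofNat, ← h3, Nat.card_eq_fintype_card, FiniteField.cast_card_eq_zero]
  haveI : CharP k 3 := (CharP.charP_iff_prime_eq_zero Nat.prime_three).2 (by exact_mod_cast h3k)
  haveI : CharP K 3 := charP_of_injective_algebraMap (algebraMap k K).injective 3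
  haveI : Fact (Nat.Prime 3) := ⟨Nat.prime_three⟩
  by_cases h9 : Fintype.card K = 9 ∧ α ^ 2 = -1
  · set s := sl2U K 1 * sl2L K α with hs
    have hsm : s ∈ pairGroup k α := mul_mem (by simpa using pairGroup_U (k := k) α 1)
      (by simpa using pairGroup_L (k := k) α 1)
    have ev : ∀ n : ℕ, s ^ n ∈ pairGroup k α := fun n => pow_mem hsm n
    have h3K : (3 : K) = 0 := by exact_mod_cast CharP.cast_eq_zero K 3
    refine (show s ^ 5 = -1 from Subtype.ext ?_) ▸ ev 5
    simp only [hs, pow_succ, pow_zero, one_mul, Matrix.SpecialLinearGroup.coe_mul, sl2U_val, sl2L_val,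
      Matrix.SpecialLinearGroup.coe_neg, Matrix.SpecialLinearGroup.coe_one]
    have hα2 : α * α = -1 := by rw [← h9.2, sq]
    ext i j
    fin_cases i <;> fin_cases j <;> simp [Matrix.mul_apply, Fin.sum_univ_two] <;> grobner
  have hsub : Subfield.closure ({α} : Set K) = ⊤ := by
    refine top_le_iff.1 fun x hx' => ?_
    clear hx'
    have hx : x ∈ Algebra.adjoin k ({α} : Set K) := hgen ▸ Algebra.mem_top
    induction hx using Algebra.adjoin_induction with
    | mem y hy => exact Subfield.subset_closure hy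
    | algebraMap r =>
      obtain ⟨n, rfl⟩ : ∃ n : ℕ, (n : k) = r := by
        have hbij := (ZMod.castHom (dvd_refl 3) k).injective.bijective_of_nat_card_le (by rw [h3, Nat.card_zmod])
        obtain ⟨z, hz⟩ := hbij.2 r
        exact ⟨z.val, by rw [← hz, ← map_natCast (ZMod.castHom (dvd_refl 3) k), ZMod.natCast_zmod_val]⟩
      rw [map_natCast]; exact natCast_mem _ n
    | add x y _ _ hx hy => exact add_mem hx hy
    | mul x y _ _ hx hy => exact mul_mem hx hy
  have hall := (PSL2.Gen.main 3 h2K α hα hsub).resolve_right h9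
  let w : Matrix.SpecialLinearGroup (Fin 2) K := ⟨!![0, 1; -1, 0], by simp [Matrix.det_fin_two]⟩
  have hle : Subgroup.closure (PSL2.Gen.gens α) ≤
      (pairGroup k α).comap (MulAut.conj w).toMonoidHom := by
    refine (Subgroup.closure_le _).2 fun g hg => ?_
    have hval : ((MulAut.conj w g : Matrix.SpecialLinearGroup (Fin 2) K) : Matrix (Fin 2) (Fin 2) K) =
        !![0, 1; -1, 0] * g.1 * !![0, -1; 1, 0] := by
      rw [MulAut.conj_apply, Matrix.SpecialLinearGroup.coe_mul, Matrix.SpecialLinearGroup.coe_mul,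
        Matrix.SpecialLinearGroup.coe_inv]
      simp [w, Matrix.adjugate_fin_two]
    rcases hg with hg | hg
    · have e : MulAut.conj w g = sl2U K (algebraMap k K (-1)) := Subtype.ext (by
        rw [hval, hg, sl2U_val]
        simp [Matrix.mul_fin_two])
      show MulAut.conj w g ∈ pairGroup k α
      rw [e]; exact pairGroup_U α _
    · have e : MulAut.conj w g = sl2L K (algebraMap k K (-1) * α) := Subtype.ext (by
        rw [hval, hg, sl2L_val]
        simp [Matrix.mul_fin_two])
      show MulAut.conj w g ∈ pairGroup k α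
      rw [e]; exact pairGroup_L α _
  rw [hall] at hle
  simpa using hle (Subgroup.mem_top (-1 : Matrix.SpecialLinearGroup (Fin 2) K))

/-- A non-nilpotent anticommutator gives an involution cutting out a part of full rank. -/
theorem exists_involution (h2 : (2 : k) ≠ 0) {a b : EndM} (ha : a * a = 0) (hb : b * b = 0)
    (hz : ¬ IsNilpotent (a * b + b * a)) :
    ∃ E : EndM, E * E = E ∧ E ≠ 0 ∧ Commute E a ∧ Commute E b ∧
      (∀ v, E v = v → a v = 0 → ∃ w, E w = w ∧ a w = v) ∧
      (∀ v, E v = v → b v = 0 → ∃ w, E w = w ∧ b w = v) ∧ ∃ t ∈ pH a b, (t : EndM) = 1 - E - E := by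
  classical
  haveI : Finite M := Module.finite_of_finite k
  haveI : Finite EndM := Finite.of_injective (fun T : EndM => (T : M → M)) DFunLike.coe_injective
  obtain ⟨D⟩ := exists_pairData ha hb
  have hpos : 0 < D.P.natDegree := D.natDegree_pos_iff.2 hz
  obtain ⟨Q, hQ, hdvd⟩ := WfDvdMonoid.exists_irreducible_factor
    (fun hu : IsUnit D.P => hpos.ne' (natDegree_eq_zero_of_isUnit hu)) D.monic.ne_zero
  haveI := Fact.mk hQ
  haveI : FiniteDimensional k (AdjoinRoot Q) := (AdjoinRoot.powerBasis hQ.ne_zero).finite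
  haveI : FiniteDimensional k D.R := (AdjoinRoot.powerBasis D.monic.ne_zero).finite
  haveI : Finite D.R := Module.finite_of_finite k
  let χ : D.R →ₐ[k] AdjoinRoot Q := AdjoinRoot.algHomOfDvd k D.P Q hdvd
  have hroot : χ (AdjoinRoot.root D.P) = AdjoinRoot.root Q := by simp [χ]
  have hα : AdjoinRoot.root Q ≠ 0 := fun e => by
    have := congrArg χ D.root_rinv
    rw [map_mul, map_one, hroot, e, zero_mul] at this
    exact zero_ne_one this
  obtain ⟨g0, hg0, heven⟩ := exists_even h2 hα AdjoinRoot.adjoinRoot_eq_top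
  rw [← hroot, ← slMap_barGroup χ] at hg0
  obtain ⟨g1, hg1, rfl⟩ := hg0
  obtain ⟨h, hh, he⟩ := D.exists_lift (show g1 ∈ D.Hbar from hg1)
  have hpown : ∀ n : ℕ, ((h ^ n : GLM) : EndM) * D.pi = D.Phi (g1 ^ n : Matrix.SpecialLinearGroup (Fin 2) D.R) := by
    intro n
    induction n with
    | zero => rw [pow_zero, pow_zero, Units.val_one, one_mul, Matrix.SpecialLinearGroup.coe_one, D.Phi_one]
    | succ n ih => rw [pow_succ, pow_succ]; exact D.bar_mul ih he
  have h2h : 2 ∣ orderOf h := by
    refine (even_iff_two_dvd.1 heven).trans ((orderOf_map_dvd _ g1).trans (orderOf_dvd_of_pow_eq_one ?_))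
    refine Subtype.ext (sub_eq_zero.1 (D.Phi_injective ?_))
    have e := hpown (orderOf h)
    rw [pow_orderOf_eq_one, Units.val_one, one_mul] at e
    have e2 := D.Phi_add ((g1 ^ orderOf h : Matrix.SpecialLinearGroup (Fin 2) D.R).1 - 1) 1
    rw [sub_add_cancel, ← e, D.Phi_one, right_eq_add] at e2
    rw [Matrix.SpecialLinearGroup.coe_one]; exact e2
  have hord : orderOf h ≠ 0 := (orderOf_pos h).ne'
  set τ := h ^ (orderOf h / 2) with hτdef
  have hτ2 : τ * τ = 1 := by
    rw [← pow_add, show orderOf h / 2 + orderOf h / 2 = orderOf h by omega, pow_orderOf_eq_one]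
  have hτ1 : τ ≠ 1 := pow_ne_one_of_lt_orderOf (by omega) (by omega)
  have hτm : τ ∈ pH a b := pow_mem hh _
  obtain ⟨g, -, hg⟩ := D.exists_bar hτm
  have hgg : g * g = 1 := by
    have e := D.bar_mul hg hg
    rw [hτ2, Units.val_one, one_mul] at e
    refine Subtype.ext (sub_eq_zero.1 (D.Phi_injective ?_))
    have e2 := D.Phi_add ((g * g : Matrix.SpecialLinearGroup (Fin 2) D.R).1 - 1) 1
    rw [sub_add_cancel, ← e, D.Phi_one, right_eq_add] at e2
    rw [Matrix.SpecialLinearGroup.coe_one]; exact e2
  have hu2 : IsUnit (2 : D.R) := by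
    rw [← map_ofNat (algebraMap k D.R)]; exact (isUnit_iff_ne_zero.2 h2).map _
  have hinv : (g : Matrix (Fin 2) (Fin 2) D.R).adjugate = g := by
    rw [← Matrix.SpecialLinearGroup.coe_inv, inv_eq_of_mul_eq_one_right hgg]
  rw [Matrix.adjugate_fin_two] at hinv
  set c := (g : Matrix (Fin 2) (Fin 2) D.R) 0 0 with hc
  have g01 : (g : Matrix (Fin 2) (Fin 2) D.R) 0 1 = 0 := hu2.mul_right_eq_zero.1 (by
    have := congrFun (congrFun hinv 0) 1
    simp at this
    linear_combination -this)
  have g10 : (g : Matrix (Fin 2) (Fin 2) D.R) 1 0 = 0 := hu2.mul_right_eq_zero.1 (by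
    have := congrFun (congrFun hinv 1) 0
    simp at this
    linear_combination -this)
  have g11 : (g : Matrix (Fin 2) (Fin 2) D.R) 1 1 = c := by
    have := congrFun (congrFun hinv 0) 0
    simpa using this
  have hcc : c * c = 1 := by
    have := g.2
    rw [Matrix.det_fin_two, g01, g10, g11, zero_mul, sub_zero] at this
    exact this
  have hPhi : D.Phi (g : Matrix (Fin 2) (Fin 2) D.R) = D.phi c := by
    simp only [PairData.Phi, g01, g10, g11, mul_zero, D.phi_zero, add_zero]
    rw [← add_mul, ← D.z_eq, D.z_phi, ← mul_assoc, D.root_rinv, one_mul]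
  -- the nilpotent part
  set U := (τ : EndM) * (1 - D.pi) - (1 - D.pi) with hU
  have hUnil : IsNilpotent U := nilpotent_of_mem_uAlg D.uNil_T0 (D.pH_compl hτm)
  have hcw : Commute (1 - D.pi) (τ : EndM) := (Commute.one_left _).sub_left (D.pi_comm_pH hτm)
  have hU0 : U = 0 := by
    have e1 : (τ : EndM) * (1 - D.pi) * ((τ : EndM) * (1 - D.pi)) = 1 - D.pi := by
      rw [mul_assoc, ← mul_assoc (1 - D.pi), hcw.eq, mul_assoc (τ : EndM) (1 - D.pi), D.compl_idem,
        ← mul_assoc, ← Units.val_mul, hτ2, Units.val_one, one_mul]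
    have e2 : (1 - D.pi) * U = U := by rw [hU, mul_sub, ← mul_assoc, hcw.eq, mul_assoc, D.compl_idem]
    have e3 : U * (1 - D.pi) = U := by rw [hU, sub_mul, mul_assoc, D.compl_idem]
    have e4 : U * (U + 2) = 0 := by
      have e5 : ((1 - D.pi) + U) * ((1 - D.pi) + U) = 1 - D.pi := by rw [hU, add_sub_cancel]; exact e1
      rw [add_mul, mul_add, mul_add, D.compl_idem, e2, e3] at e5
      rw [mul_add, mul_two]
      linear_combination (norm := abel) e5
    have hu : IsUnit (U + 2) := by
      rw [← map_ofNat (algebraMap k EndM)]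
      exact hUnil.isUnit_add_right_of_commute ((isUnit_iff_ne_zero.2 h2).map _) (Algebra.commute_algebraMap_right _ _)
    exact hu.mul_left_eq_zero.1 e4
  have hτv : (τ : EndM) = (1 - D.pi) + D.phi c := by
    rw [← hPhi, ← hg, ← (sub_eq_zero.1 hU0), mul_sub, mul_one, sub_add_cancel]
  set e := algebraMap k D.R 2⁻¹ * (1 - c) with hedef
  have h2e : algebraMap k D.R 2⁻¹ * 2 = 1 := by
    rw [← map_ofNat (algebraMap k D.R), ← map_mul, inv_mul_cancel₀ h2, map_one]
  have hee : e * e = e := by
    linear_combination (algebraMap k D.R 2⁻¹ * algebraMap k D.R 2⁻¹) * hcc +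
      (algebraMap k D.R 2⁻¹ * (1 - c)) * h2e
  have htau : (τ : EndM) = 1 - D.phi e - D.phi e := by
    rw [hτv, sub_sub, ← D.phi_add, show e + e = 1 - c by linear_combination (1 - c) * h2e, D.phi_sub, D.phi_one]
    abel
  refine ⟨D.phi e, by rw [← D.phi_mul, hee], fun he0 => hτ1 (Units.ext (by rw [htau, he0, sub_zero, sub_zero,
    Units.val_one])), D.comm_phi_a e, D.comm_phi_b e, fun v hv hav => ?_, fun v hv hbv => ?_, τ, hτm, htau⟩
  · set v' := D.phi (D.rinv * e) v with hv'
    have hav' : a v' = 0 := by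
      rw [hv', ← Module.End.mul_apply, ← (D.comm_phi_a _).eq, Module.End.mul_apply, hav, map_zero]
    have hzv : D.z v' = v := by
      rw [hv', ← Module.End.mul_apply, D.z_phi, ← mul_assoc, D.root_rinv, one_mul, hv]
    rw [D.z_eq, LinearMap.add_apply, Module.End.mul_apply, Module.End.mul_apply, hav', map_zero, add_zero] at hzv
    refine ⟨D.phi e (b v'), by rw [← Module.End.mul_apply, ← D.phi_mul, hee], ?_⟩
    rw [← Module.End.mul_apply, ← (D.comm_phi_a e).eq, Module.End.mul_apply, hzv, hv]
  · set v' := D.phi (D.rinv * e) v with hv'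
    have hbv' : b v' = 0 := by
      rw [hv', ← Module.End.mul_apply, ← (D.comm_phi_b _).eq, Module.End.mul_apply, hbv, map_zero]
    have hzv : D.z v' = v := by
      rw [hv', ← Module.End.mul_apply, D.z_phi, ← mul_assoc, D.root_rinv, one_mul, hv]
    rw [D.z_eq, LinearMap.add_apply, Module.End.mul_apply, Module.End.mul_apply, hbv', map_zero, zero_add] at hzv
    refine ⟨D.phi e (a v'), by rw [← Module.End.mul_apply, ← D.phi_mul, hee], ?_⟩
    rw [← Module.End.mul_apply, ← (D.comm_phi_b e).eq, Module.End.mul_apply, hzv, hv]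


end CfsgLib.QuadPair
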