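import Cfsg.Agent.Lib.OrthMax.TensorOO.Quad.Classify
import Cfsg.Agent.Lib.OrthMax.TensorOO.Quad.PairInvol
import Mathlib.GroupTheory.Nilpotent

/-! Conjugates of long elements, paired with long elements, force a product map. -/

set_option autoImplicit false
set_option linter.unusedSectionVars false
set_option linter.unusedVariables false
set_option linter.unusedSimpArgs false

namespace CfsgLib.TensorOO

open QuadraticMap CfsgLib.Geometry CfsgLib.OrthMax CfsgLib.QuadPair CfsgLib.ThreeTransp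
open CfsgLib.TensorSp (In)
open LinearMap (BilinForm)

variable {F V U W : Type*} [Field F] [Finite F] [AddCommGroup V] [Module F V] [AddCommGroup U] [Module F U]
  [AddCommGroup W] [Module F W]
variable [FiniteDimensional F V] [FiniteDimensional F U] [FiniteDimensional F W]
variable {Q : QuadraticForm F V} {M : Subgroup (V ≃ₗ[F] V)}

omit [Finite F] in
/-- An idempotent cutting out a part on which kernel and image agree keeps the image of full rank. -/
theorem range_le_of_invariant {a b E : Module.End F V} (hE : E * E = E) (ha : a * a = 0) (hb : b * b = 0)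
    (hca : Commute E a) (hcb : Commute E b) (hka : ∀ v, E v = v → a v = 0 → ∃ w, E w = w ∧ a w = v)
    (hkb : ∀ v, E v = v → b v = 0 → ∃ w, E w = w ∧ b w = v) (hran : LinearMap.range a ≤ LinearMap.range E)
    (hrk : Module.finrank F (LinearMap.range b) = Module.finrank F (LinearMap.range a)) :
    LinearMap.range b ≤ LinearMap.range E := by
  set p := LinearMap.range E with hp
  have hfix : ∀ {v}, v ∈ p → E v = v := fun {v} ⟨w, hw⟩ => by rw [← hw, ← Module.End.mul_apply, hE]
  have half : ∀ c : Module.End F V, c * c = 0 → Commute E c →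
      (∀ v, E v = v → c v = 0 → ∃ w, E w = w ∧ c w = v) →
      Module.finrank F p = 2 * Module.finrank F (p.map c) := by
    intro c hc hcc hk
    have hmap : p.map c = p ⊓ LinearMap.ker c := by
      refine le_antisymm ?_ fun v hv => ?_
      · rintro _ ⟨v, hv, rfl⟩
        exact ⟨⟨c v, by rw [← Module.End.mul_apply, hcc.eq, Module.End.mul_apply, hfix hv]⟩,
          LinearMap.congr_fun hc v⟩
      · obtain ⟨w, hw, e⟩ := hk v (hfix hv.1) hv.2
        exact ⟨w, ⟨w, hw⟩, e⟩
    have h1 := (c.domRestrict p).finrank_range_add_finrank_ker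
    rw [LinearMap.range_domRestrict, LinearMap.ker_domRestrict,
      (Submodule.equivMapOfInjective p.subtype p.injective_subtype _).finrank_eq,
      Submodule.map_comap_subtype, ← hmap] at h1
    omega
  have h1 := half a ha hca hka
  have h2 := half b hb hcb hkb
  have h3 : p.map a = LinearMap.range a := by
    refine le_antisymm LinearMap.map_le_range ?_
    rintro _ ⟨v, rfl⟩
    obtain ⟨w, hw, e⟩ := hka (a v) (hfix (hran ⟨v, rfl⟩)) (LinearMap.congr_fun ha v)
    exact ⟨w, ⟨w, hw⟩, e⟩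
  rw [h3] at h1
  have h4 : p.map b = LinearMap.range b := Submodule.eq_of_le_of_finrank_eq LinearMap.map_le_range (by omega)
  rw [← h4]
  rintro _ ⟨v, hv, rfl⟩
  exact ⟨b v, by rw [← Module.End.mul_apply, hcb.eq, Module.End.mul_apply, hfix hv]⟩

namespace Nice

variable {X : Type*} [AddCommGroup X] [Module F X] [FiniteDimensional F X] {B : BilinForm F X} (hB : Nice B)

include hB

omit [Finite F] in
/-- A similitude of an odd-dimensional space with scalar square is a scaled isometric involution. -/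
theorem invol_norm (hodd : Odd (Module.finrank F X)) {f : Module.End F X} {c μ : F} (hc : c ≠ 0)
    (hf : ∀ x, f (f x) = c • x) (hμ : ∀ x y, B (f x) (f y) = μ * B x y) :
    ∃ r : F, r ≠ 0 ∧ r * r = c ∧ μ = c := by
  obtain ⟨a, ha⟩ := hodd
  haveI : Nontrivial X := Module.nontrivial_of_finrank_pos (R := F) (by omega)
  obtain ⟨r, hr⟩ : ∃ r, r * r = c := by
    refine ⟨LinearMap.det f / c ^ a, ?_⟩
    have e : LinearMap.det f * LinearMap.det f = c ^ Module.finrank F X := by
      rw [← map_mul, show f * f = c • 1 from LinearMap.ext hf, LinearMap.det_smul, map_one, mul_one]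
    rw [div_mul_div_comm, e, ha, div_eq_iff (mul_ne_zero (pow_ne_zero _ hc) (pow_ne_zero _ hc))]
    ring
  have hr0 : r ≠ 0 := fun e => hc (by rw [← hr, e, mul_zero])
  refine ⟨r, hr0, hr, by_contra fun hne => ?_⟩
  obtain ⟨e₀, he₀⟩ := hB.exists_aniso
  have hsq : μ * μ = c * c := by
    have := hμ (f e₀) (f e₀)
    rw [hf, hμ, map_smul, map_smul, LinearMap.smul_apply, smul_eq_mul, smul_eq_mul] at this
    exact mul_right_cancel₀ he₀ (by linear_combination -this)
  have hμc : μ = -c := (mul_self_eq_mul_self_iff.1 hsq).resolve_left hne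
  set g := r⁻¹ • f with hg
  have hgg : ∀ x, g (g x) = x := fun x => by
    rw [hg, LinearMap.smul_apply, LinearMap.smul_apply, map_smul, hf, smul_smul, smul_smul]
    rw [show r⁻¹ * r⁻¹ * c = 1 by rw [← hr]; field_simp, one_smul]
  have hiso : ∀ x y, B (g x) (g y) = - B x y := fun x y => by
    rw [hg, LinearMap.smul_apply, LinearMap.smul_apply, map_smul, map_smul, LinearMap.smul_apply, smul_eq_mul,
      smul_eq_mul, hμ, hμc, ← hr]
    field_simp
  have h2 := hB.two
  have half : ∀ S : Submodule F X, (∀ x ∈ S, g x = x ∨ g x = -x) → 2 * Module.finrank F S ≤ Module.finrank F X :=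
    fun S hS => le_of_not_gt fun hlt => by
      obtain ⟨x, hx, hxx⟩ := hB.exists_aniso_in S hlt
      have := hiso x x
      rcases hS x hx with e | e <;> rw [e] at this
      · exact hxx ((mul_eq_zero.1 (show (2 : F) * B x x = 0 by linear_combination this)).resolve_left h2)
      · simp only [map_neg, LinearMap.neg_apply, neg_neg] at this
        exact hxx ((mul_eq_zero.1 (show (2 : F) * B x x = 0 by linear_combination this)).resolve_left h2)
  have h1 := half (LinearMap.ker (g - 1)) fun x hx => Or.inl (by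
    simpa [sub_eq_zero] using hx)
  have h1' := half (LinearMap.ker (g + 1)) fun x hx => Or.inr (by
    simpa [add_eq_zero_iff_eq_neg] using hx)
  have htop : LinearMap.ker (g - 1) ⊔ LinearMap.ker (g + 1) = ⊤ := eq_top_iff.2 fun x _ => by
    rw [show x = (2 : F)⁻¹ • (x + g x) + (2 : F)⁻¹ • (x - g x) by match_scalars <;> field_simp <;> ring]
    refine Submodule.add_mem_sup (Submodule.smul_mem _ _ ?_) (Submodule.smul_mem _ _ ?_) <;>
      simp [hgg, add_comm, sub_eq_add_neg, add_left_comm]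
  have h3 := Submodule.finrank_sup_add_finrank_inf_eq (LinearMap.ker (g - 1)) (LinearMap.ker (g + 1))
  rw [htop, finrank_top] at h3
  omega

/-- Orthogonal vectors of a pair determine it. -/
theorem eq_of_perp_pair {w v w' v' y : X} (h1 : B w w' = 1) (h2 : B w v' = 0) (h3 : B v w' = 0) (h4 : B v v' = 1)
    (e : ∀ x, B w x = 0 → B v x = 0 → B x y = 0) : y = B w' y • w + B v' y • v := by
  refine hB.ext_left fun x => ?_
  have := e (x - B w x • w' - B v x • v') (by simp [h1, h2]) (by simp [h3, h4])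
  simp only [map_sub, map_smul, LinearMap.sub_apply, LinearMap.smul_apply, smul_eq_mul] at this
  simp only [map_add, map_smul, smul_eq_mul, hB.sym x w, hB.sym x v]
  linear_combination this

omit [Finite F] in
/-- The orthogonal of a non-zero subspace is proper. -/
theorem orth_ne_top {S : Submodule F X} (hS : S ≠ ⊥) : B.orthogonal S ≠ ⊤ := fun e => hS (by
  have := LinearMap.BilinForm.finrank_orthogonal hB.nd S
  rw [e, finrank_top] at this
  have := Submodule.finrank_le S
  have : Module.finrank F X = 0 ∨ Module.finrank F S = 0 := by omega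
  rcases this with h0 | h0
  · exact Submodule.finrank_eq_zero.1 (by omega)
  · exact Submodule.finrank_eq_zero.1 h0)

/-- A subspace of dimension three lies with some isotropic pair in no four dimensions. -/
theorem exists_pair_far (h5 : 5 ≤ Module.finrank F X) {S : Submodule F X} (hS : 3 ≤ Module.finrank F S) :
    ∃ w v, w ≠ 0 ∧ B w w = 0 ∧ B v v = 0 ∧ B w v = 0 ∧ v ∉ Submodule.span F {w} ∧
      ∀ P : Submodule F X, S ≤ P → w ∈ P → v ∈ P → 5 ≤ Module.finrank F P := by
  have hany : ∀ w, w ≠ 0 → B w w = 0 → 5 ≤ Module.finrank F (S ⊔ Submodule.span F {w} : Submodule F X) →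
      ∃ w v, w ≠ 0 ∧ B w w = 0 ∧ B v v = 0 ∧ B w v = 0 ∧ v ∉ Submodule.span F {w} ∧
        ∀ P : Submodule F X, S ≤ P → w ∈ P → v ∈ P → 5 ≤ Module.finrank F P := fun w hw0 hw h5' => by
    obtain ⟨v, hwv, hv, hn⟩ := hB.exists_iso_perp h5 hw0 hw
    exact ⟨w, v, hw0, hw, hv, hwv, hn, fun P hSP hwP _ => h5'.trans (Submodule.finrank_mono
      (sup_le hSP ((Submodule.span_singleton_le_iff_mem _ _).2 hwP)))⟩
  by_cases hStop : S = ⊤
  · obtain ⟨w, -, hw0, hw⟩ := exists_iso_in B (⊤ : Submodule F X) (by rw [finrank_top]; omega)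
    exact hany w hw0 hw (h5.trans (by rw [hStop, top_sup_eq, finrank_top]))
  obtain ⟨a, ha, haS⟩ : ∃ a, B a a = 0 ∧ a ∉ S := by
    by_contra hno
    push Not at hno
    exact hStop (eq_top_iff.2 fun x _ => hB.span_iso (by omega) S hno x)
  obtain ⟨b, hb, hbN⟩ : ∃ b, B b b = 0 ∧ b ∉ B.orthogonal S := by
    by_contra hno
    push Not at hno
    refine hB.orth_ne_top (fun e => ?_) (eq_top_iff.2 fun x _ => hB.span_iso (by omega) _ hno x)
    rw [e, finrank_bot] at hS
    omega
  obtain ⟨w, hw, hwS, hwN⟩ : ∃ w, B w w = 0 ∧ w ∉ S ∧ w ∉ B.orthogonal S := by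
    by_cases haN : a ∈ B.orthogonal S
    · by_cases hbS : b ∈ S
      · refine ⟨a + b, ?_, fun h => haS ((Submodule.add_mem_iff_left _ hbS).1 h),
          fun h => hbN ((Submodule.add_mem_iff_right _ haN).1 h)⟩
        have hab : B b a = 0 := LinearMap.BilinForm.mem_orthogonal_iff.1 haN b hbS
        simp [ha, hb, hab, hB.sym a b]
      · exact ⟨b, hb, hbS, hbN⟩
    · exact ⟨a, ha, haS, haN⟩
  have hw0 : w ≠ 0 := fun e => hwS (e ▸ zero_mem _)
  set K := S ⊔ Submodule.span F {w} with hK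
  by_cases hK5 : 5 ≤ Module.finrank F K
  · exact hany w hw0 hw hK5
  have hSK : S < K := lt_of_le_of_ne le_sup_left fun e => hwS (e ▸ le_sup_right (a := S)
    (Submodule.mem_span_singleton_self w))
  have hK4 := Submodule.finrank_lt_finrank_of_lt hSK
  obtain ⟨y, hwy, hyK⟩ : ∃ y, B w y = 0 ∧ y ∉ K := by
    by_contra hno
    push Not at hno
    have hle : LinearMap.ker (B w) ≤ K := fun x hx => hno x hx
    have h1 := hB.finrank_ker hw0
    have heq := Submodule.eq_of_le_of_finrank_le hle (by omega)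
    refine hwN (LinearMap.BilinForm.mem_orthogonal_iff.2 fun s hs => ?_)
    show B s w = 0
    rw [hB.sym]
    exact LinearMap.mem_ker.1 (heq.ge (le_sup_left (b := Submodule.span F {w}) hs))
  obtain ⟨v, hv, hwv, hvK⟩ : ∃ v, B v v = 0 ∧ B w v = 0 ∧ v ∉ K := by
    by_contra hno
    push Not at hno
    exact hyK (hB.mem_of_iso h5 hw0 hw K (fun v hwv hv => hno v hv hwv) hwy)
  refine ⟨w, v, hw0, hw, hv, hwv, fun h => hvK (le_sup_right (a := S) h), fun P hSP hwP hvP => ?_⟩
  have hKP : K ≤ P := sup_le hSP ((Submodule.span_singleton_le_iff_mem _ _).2 hwP)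
  have := Submodule.finrank_lt_finrank_of_lt (lt_of_le_of_ne hKP fun e => hvK (e ▸ hvP))
  omega

end Nice

namespace TData

variable {h : TData Q U W}

theorem lg_tp (w v : W) (u : U) (y : W) :
    h.lg w v 1 (h.tp u y) = h.tp u (h.gW v y • w - h.gW w y • v) := by
  simp [lg, P_apply]

/-- The group of product maps. -/
def pureSub (h : TData Q U W) [Nontrivial U] [Nontrivial W] : Subgroup (V ≃ₗ[F] V) where
  carrier := {g | h.Pure g}
  one_mem' := ⟨1, 1, fun u y => rfl⟩
  mul_mem' := by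
    rintro g g' ⟨l, S, e⟩ ⟨l', S', e'⟩
    exact ⟨l * l', S * S', fun u y => by rw [LinearEquiv.mul_apply, e', e]; rfl⟩
  inv_mem' := fun hg => Pure.symm hg

theorem mem_pureSub [Nontrivial U] [Nontrivial W] {g : V ≃ₗ[F] V} : g ∈ h.pureSub ↔ h.Pure g := Iff.rfl

theorem range_lg {w v w' v' : W} (hp : h.IsoPair w v w' v') :
    LinearMap.range (h.lg w v 1) = h.A w ⊔ h.A v := by
  refine le_antisymm ?_ (sup_le ?_ ?_)
  · rintro _ ⟨T, rfl⟩
    simp only [lg, P_apply, LinearMap.sub_apply, adj_one, Module.End.one_apply]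
    exact Submodule.sub_mem _ (Submodule.mem_sup_left (h.tp_mem_A _ _)) (Submodule.mem_sup_right (h.tp_mem_A _ _))
  · rintro _ ⟨u, rfl⟩
    exact ⟨h.tp u v', by simp [lg_tp, hp.vv', hp.wv']⟩
  · rintro _ ⟨u, rfl⟩
    exact ⟨h.tp (-u) w', by simp [lg_tp, hp.ww', hp.vw']⟩

theorem lg_sq {w v w' v' : W} (hp : h.IsoPair w v w' v') : h.lg w v 1 * h.lg w v 1 = 0 :=
  h.ext_tp fun u y => by
    simp [lg_tp, hp.ww, hp.vv, hp.wv, h.g_sym v w]

variable [Nontrivial U] [Nontrivial W]
variable (hG : h.Gens M) (h5 : 5 ≤ Module.finrank F W)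

include hG h5

theorem in_lg {w v w' v' : W} (hp : h.IsoPair w v w' v') (c : F) : In M (c • h.lg w v 1) := by
  have := in_sh hG hp.ww (show h.gW w (c • v) = 0 by rw [map_smul, hp.wv, smul_zero])
  rwa [h.sh_smul, h.sh_iso hp.vv, show h.lg w v (c • 1) = c • h.lg w v 1 from LinearMap.ext fun T => by
    simp [lg, P_apply, smul_sub]] at this

variable (hS : h.Scal M) (hUW : Module.finrank F U < Module.finrank F W)

include hS hUW

/-- An element carrying a long element to a product is a product. -/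
theorem pure_of_conj {w v w' v' : W} (hp : h.IsoPair w v w' v') {g r : V ≃ₗ[F] V} (hg : g ∈ M) (hr : r ∈ M)
    (hrp : h.Pure r) {Z : Module.End F V} (eZ : ∀ T, g (h.lg w v 1 T) = Z (g T)) (er : ∀ T, r T = T + Z T) :
    h.Pure g := by
  obtain ⟨p, hpp⟩ := CharP.exists F
  haveI : Fact p.Prime := ⟨CharP.char_is_prime F p⟩
  have hZ2 : Z * Z = 0 := LinearMap.ext fun T => by
    obtain ⟨S, rfl⟩ := g.surjective T
    rw [Module.End.mul_apply, ← eZ, ← eZ, LinearMap.zero_apply, ← Module.End.mul_apply, lg_sq hp,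
      LinearMap.zero_apply, map_zero]
  have hran : LinearMap.range Z = (h.A w ⊔ h.A v).map g.toLinearMap := by
    rw [← range_lg hp, ← LinearMap.range_comp,
      show g.toLinearMap ∘ₗ h.lg w v 1 = Z ∘ₗ g.toLinearMap from LinearMap.ext eZ,
      LinearMap.range_comp_of_range_eq_top _ (LinearMap.range_eq_top.2 g.surjective)]
  obtain ⟨x, z, x', z', hq, t, ht, rfl⟩ := pure_square_zero hUW p (hG.le hr) hrp er hZ2 (by
    rw [hran, LinearEquiv.finrank_map_eq, finrank_sup_A hp.w0 hp.vn])
  exact pure_of_pair hG h5 hS hp hq hg ht fun T => by rw [eZ]; rfl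

variable {w₀ v₀ w₀' v₀' : W} (hp₀ : h.IsoPair w₀ v₀ w₀' v₀') {k : V ≃ₗ[F] V} (hk : k ∈ M)
variable {Y : Module.End F V} (hY : ∀ T, k (h.lg w₀ v₀ 1 T) = Y (k T))

omit hS hUW h5 hG in
include hp₀ hY in
theorem conj_sq : Y * Y = 0 := LinearMap.ext fun T => by
  obtain ⟨S, rfl⟩ := k.surjective T
  rw [Module.End.mul_apply, ← hY, ← hY, LinearMap.zero_apply, ← Module.End.mul_apply, lg_sq hp₀,
    LinearMap.zero_apply, map_zero]

omit hS hUW h5 hG in
include hp₀ hY in
theorem range_conj : LinearMap.range Y = (h.A w₀ ⊔ h.A v₀).map k.toLinearMap := by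
  rw [← range_lg hp₀, ← LinearMap.range_comp,
    show k.toLinearMap ∘ₗ h.lg w₀ v₀ 1 = Y ∘ₗ k.toLinearMap from LinearMap.ext hY,
    LinearMap.range_comp_of_range_eq_top _ (LinearMap.range_eq_top.2 k.surjective)]

omit hS hUW in
include hp₀ hY hk in
/-- The scalar families of a long element and of a conjugate lie in the group. -/
theorem pair_qfam {w v w' v' : W} (hp : h.IsoPair w v w' v') :
    QFam (M.comap (LinearMap.GeneralLinearGroup.generalLinearEquiv F V).toMonoidHom) (h.lg w v 1) ∧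
      QFam (M.comap (LinearMap.GeneralLinearGroup.generalLinearEquiv F V).toMonoidHom) Y := by
  set e := LinearMap.GeneralLinearGroup.generalLinearEquiv F V
  have key : ∀ {X : Module.End F V}, X * X = 0 → In M X → qel X ∈ M.comap e.toMonoidHom := by
    intro X hX ⟨g, hg, eg⟩
    show e (qel X) ∈ M
    rw [show e (qel X) = g from LinearEquiv.ext fun T => by
      rw [eg, show e (qel X) T = (qel X).val T from rfl, qel_val hX]; rfl]
    exact hg
  refine ⟨⟨lg_sq hp, fun c => key (smul_sq_zero (lg_sq hp) c) (in_lg hG h5 hp c)⟩,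
    ⟨conj_sq hp₀ hY, fun c => key (smul_sq_zero (conj_sq hp₀ hY) c) ((in_lg hG h5 hp₀ c).conj hk fun T => ?_)⟩⟩
  rw [LinearMap.smul_apply, LinearMap.smul_apply, map_smul, hY]

include hp₀ hY hk in
/-- Unless the element is a product, the anticommutator with a long element is not nilpotent. -/
theorem not_nilpotent (hnp : ¬ h.Pure k) {w v w' v' : W} (hp : h.IsoPair w v w' v') :
    ¬ IsNilpotent (h.lg w v 1 * Y + Y * h.lg w v 1) := by
  classical
  intro hz
  obtain ⟨p, hpp⟩ := CharP.exists F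
  haveI : Fact p.Prime := ⟨CharP.char_is_prime F p⟩
  obtain ⟨hfX, hfY⟩ := pair_qfam hG h5 hp₀ hk hY hp
  set e := LinearMap.GeneralLinearGroup.generalLinearEquiv F V with he
  set H := pH (h.lg w v 1) Y with hH
  set P := (h.pureSub.comap e.toMonoidHom).subgroupOf H with hP
  have hHM : H ≤ M.comap e.toMonoidHom := pH_le hfX hfY
  have hval : ∀ (g : LinearMap.GeneralLinearGroup F V) T, e g T = g.val T := fun g T => rfl
  have hXm : qel (h.lg w v 1) ∈ H := by simpa using qel_mem_pH_left (h.lg w v 1) Y 1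
  have hYm : qel Y ∈ H := by simpa using qel_mem_pH_right (h.lg w v 1) Y 1
  have hXP : (⟨_, hXm⟩ : H) ∈ P := ⟨1, 1 + (h.gW v).smulRight w - (h.gW w).smulRight v, fun u y => by
    show e (qel (h.lg w v 1)) (h.tp u y) = _
    rw [hval, qel_val (lg_sq hp)]
    simp [lg_tp, add_sub_assoc]⟩
  by_cases htop : P = ⊤
  · have hm : (⟨_, hYm⟩ : H) ∈ P := htop ▸ Subgroup.mem_top _
    exact hnp (pure_of_conj hG h5 hS hUW hp₀ hk (hHM hYm) hm hY fun T => by
      show e (qel Y) T = _
      rw [hval, qel_val (conj_sq hp₀ hY)]; rfl)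
  haveI : Finite V := Module.finite_of_finite F
  haveI : Finite (LinearMap.GeneralLinearGroup F V) :=
    Finite.of_injective (fun g => (g.val : V → V)) fun g g' hg => Units.ext (DFunLike.coe_injective hg)
  have hpg : IsPGroup p H := fun g => by
    obtain ⟨j, hj⟩ := pH_pow (lg_sq hp) (conj_sq hp₀ hY) hz p g.2
    exact ⟨j, Subtype.ext hj⟩
  haveI := hpg.isNilpotent
  obtain ⟨g, hgn, hgP⟩ := SetLike.exists_of_lt (Group.normalizerCondition_of_isNilpotent P (lt_top_iff_ne_top.2 htop))
  have hc := (Subgroup.mem_normalizer_iff.1 hgn _).1 hXP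
  refine hgP (pure_of_conj hG h5 hS hUW hp (hHM g.2) (hHM (g * (⟨_, hXm⟩ : H) * g⁻¹).2) (Subgroup.mem_subgroupOf.1 hc)
    (Z := eConj g.1 (h.lg w v 1)) (fun T => ?_) fun T => ?_)
  · show g.1.val _ = (g.1.val * _ * (g.1⁻¹).val) (g.1.val T)
    rw [← Module.End.mul_apply, ← Module.End.mul_apply, mul_assoc _ (g.1⁻¹).val, Units.inv_mul, mul_one]
  · show e (g.1 * qel (h.lg w v 1) * g.1⁻¹) T = _
    rw [qel_conj (lg_sq hp), hval, qel_val (eConj_sq (lg_sq hp))]; rfl

include hp₀ hY hk in
/-- The involution of the pair confines the image to four dimensions of the second factor. -/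
theorem exists_four (hodd : Odd (Module.finrank F U) ∨ Odd (Module.finrank F W)) (hnp : ¬ h.Pure k)
    {w v w' v' : W} (hp : h.IsoPair w v w' v') : ∃ P : Submodule F W, w ∈ P ∧ v ∈ P ∧
      Module.finrank F P ≤ 4 ∧ ∀ x, x ∈ h.gW.orthogonal P → ∀ T, h.c x (Y T) = 0 := by
  classical
  have h2 := h.h2
  obtain ⟨E, hEE, hE0, hcX, hcY, hkX, hkY, t, htm, hte⟩ :=
    exists_involution h2 (lg_sq hp) (conj_sq hp₀ hY) (not_nilpotent hG h5 hS hUW hp₀ hk hY hnp hp)
  obtain ⟨hfX, hfY⟩ := pair_qfam hG h5 hp₀ hk hY hp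
  set e := LinearMap.GeneralLinearGroup.generalLinearEquiv F V with he
  set τ := e t with hτdef
  have hτM : τ ∈ M := pH_le hfX hfY htm
  have hτ : ∀ T, τ T = T - E T - E T := fun T => by
    show t.val T = _
    rw [hte]; rfl
  have hEE' : ∀ T, E (E T) = E T := fun T => LinearMap.congr_fun hEE T
  have hττ : ∀ T, τ (τ T) = T := fun T => by
    rw [hτ (τ T), hτ T, map_sub, map_sub, hEE']; abel
  have hXE : ∀ T, E (h.lg w v 1 T) = h.lg w v 1 (E T) := fun T => LinearMap.congr_fun hcX.eq T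
  have hτX : ∀ T, τ (h.lg w v 1 T) = h.lg w v 1 (τ T) := fun T => by
    rw [hτ, hτ, map_sub, map_sub, hXE]
  obtain ⟨lam₀, S₀, e₀⟩ := pure_of_pair hG h5 hS hp hp hτM one_ne_zero fun T => by rw [hτX, one_smul]
  obtain ⟨bl, bS⟩ := Pure.bij e₀
  -- scalars
  obtain ⟨y₁, hy₁⟩ := exists_ne (0 : W)
  have hSy₁ : S₀ (S₀ y₁) ≠ 0 := fun e' => hy₁ (bS.1 (bS.1 (by rw [e', map_zero, map_zero])))
  obtain ⟨x₁, hx₁⟩ := h.gN.exists_one hSy₁
  set c := h.gW x₁ y₁ with hcdef
  have hl2 : ∀ u, lam₀ (lam₀ u) = c • u := fun u => by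
    have := congrArg (h.c x₁) (hττ (h.tp u y₁))
    rwa [e₀, e₀, h.c_tp, h.c_tp, hx₁, one_smul] at this
  have hc0 : c ≠ 0 := fun ec => by
    obtain ⟨u, hu⟩ := exists_ne (0 : U)
    exact hu (bl.1 (bl.1 (by rw [hl2, ec, zero_smul, map_zero, map_zero])))
  obtain ⟨u₁, hu₁⟩ := exists_ne (0 : U)
  have hS2 : ∀ y, S₀ (S₀ y) = c⁻¹ • y := fun y => by
    refine h.swap.tp_injective hu₁ (show h.tp u₁ (S₀ (S₀ y)) = h.tp u₁ (c⁻¹ • y) from ?_)
    have := hττ (h.tp u₁ y)
    rw [e₀, e₀, hl2, map_smul, LinearMap.smul_apply] at this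
    rw [map_smul]
    exact (eq_inv_smul_iff₀ hc0).2 this
  have horth : ∀ a b y y', h.fU (lam₀ a) (lam₀ b) * h.gW (S₀ y) (S₀ y') = h.fU a b * h.gW y y' := fun a b y y' => by
    rw [← h.pol, ← e₀, ← e₀, orth_polar (hG.le hτM), h.pol]
  obtain ⟨a₁, ha₁⟩ := h.fN.exists_aniso
  obtain ⟨b₁, hb₁⟩ := h.gN.exists_aniso
  set μ := h.fU a₁ a₁ / h.fU (lam₀ a₁) (lam₀ a₁) with hμdef
  have hla₁ : h.fU (lam₀ a₁) (lam₀ a₁) ≠ 0 := fun e' => by
    have := horth a₁ a₁ b₁ b₁
    rw [e', zero_mul] at this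
    exact mul_ne_zero ha₁ hb₁ this.symm
  have hμ0 : μ ≠ 0 := div_ne_zero ha₁ hla₁
  have hgS : ∀ y y', h.gW (S₀ y) (S₀ y') = μ * h.gW y y' := fun y y' => by
    rw [hμdef, div_mul_eq_mul_div, eq_div_iff hla₁, ← horth a₁ a₁ y y']; ring
  have hfl : ∀ a b, h.fU (lam₀ a) (lam₀ b) = μ⁻¹ * h.fU a b := fun a b => by
    have := horth a b b₁ b₁
    rw [hgS] at this
    rw [eq_inv_mul_iff_mul_eq₀ hμ0]
    exact mul_right_cancel₀ hb₁ (by linear_combination this)
  obtain ⟨r, hr0, hr, hμc⟩ : ∃ r : F, r ≠ 0 ∧ r * r = c ∧ μ = c⁻¹ := by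
    rcases hodd with ho | ho
    · obtain ⟨r, hr0, hr, e'⟩ := h.fN.invol_norm ho hc0 hl2 hfl
      exact ⟨r, hr0, hr, by rw [← e', inv_inv]⟩
    · obtain ⟨r, hr0, hr, e'⟩ := h.gN.invol_norm ho (inv_ne_zero hc0) hS2 hgS
      exact ⟨r⁻¹, inv_ne_zero hr0, by rw [← mul_inv, hr, inv_inv], e'⟩
  -- the action on the pair
  set S₁ := r • S₀ with hS₁def
  have hS₁S : ∀ y, S₁ (S₁ y) = y := fun y => by
    simp only [hS₁def, LinearMap.smul_apply, map_smul, smul_smul, hS2, ← mul_assoc, hr, mul_inv_cancel₀ hc0, one_smul]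
  have hg₁ : ∀ y y', h.gW (S₁ y) (S₁ y') = h.gW y y' := fun y y' => by
    simp only [hS₁def, LinearMap.smul_apply, map_smul, smul_eq_mul, hgS, ← mul_assoc, hr, hμc,
      mul_inv_cancel₀ hc0, one_mul]
  have hadj : ∀ y y', h.gW (S₁ y) y' = h.gW y (S₁ y') := fun y y' => by
    conv_lhs => rw [← hS₁S y', hg₁]
  have e₁ : ∀ u y, τ (h.tp u y) = h.tp (r⁻¹ • lam₀ u) (S₁ y) := fun u y => by
    rw [e₀, hS₁def, LinearMap.smul_apply, map_smul, map_smul, LinearMap.smul_apply, smul_smul,
      mul_inv_cancel₀ hr0, one_smul]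
  have hRS : ∀ y, S₁ (h.gW v y • w - h.gW w y • v) = h.gW v (S₁ y) • w - h.gW w (S₁ y) • v := fun y => by
    have hne : r⁻¹ • lam₀ u₁ ≠ 0 := smul_ne_zero (inv_ne_zero hr0) fun e' => hu₁ (bl.1 (by rw [e', map_zero]))
    refine h.swap.tp_injective hne (show h.tp (r⁻¹ • lam₀ u₁) _ = h.tp (r⁻¹ • lam₀ u₁) _ from ?_)
    rw [← e₁, ← lg_tp, hτX, e₁, lg_tp]
  have hSw := hRS v'
  have hSv := hRS w'
  simp only [hp.vv', hp.wv', hp.vw', hp.ww', one_smul, zero_smul, zero_sub, sub_zero, map_neg] at hSw hSv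
  have hb0 : h.gW w (S₁ v') = 0 := by
    have : h.gW w (S₁ v') = - h.gW w (S₁ v') := by
      conv_lhs => rw [← hadj, hSw]
      simp [hp.wv', hp.vv']
    exact (mul_eq_zero.1 (show (2 : F) * h.gW w (S₁ v') = 0 by linear_combination this)).resolve_left h2
  have hc0' : h.gW v (S₁ w') = 0 := by
    have : h.gW v (S₁ w') = - h.gW v (S₁ w') := by
      conv_lhs => rw [← hadj, neg_eq_iff_eq_neg.1 hSv]
      simp [hp.ww', hp.vw']
    exact (mul_eq_zero.1 (show (2 : F) * h.gW v (S₁ w') = 0 by linear_combination this)).resolve_left h2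
  rw [hb0, zero_smul, sub_zero] at hSw
  rw [hc0', zero_smul, zero_sub, neg_inj] at hSv
  set a := h.gW v (S₁ v') with hadef
  have hda : h.gW w (S₁ w') = a := by
    rw [← hadj, hSw, map_smul, LinearMap.smul_apply, hp.ww', smul_eq_mul, mul_one]
  rw [hda] at hSv
  have haa : a * a = 1 := by
    have := hS₁S w
    rw [hSw, map_smul, hSw, smul_smul] at this
    exact smul_left_injective F hp.w0 (this.trans (one_smul F w).symm)
  set S := a • S₁ with hSdef
  set lam := (a * r⁻¹) • lam₀ with hlamdef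
  have eτ : ∀ u y, τ (h.tp u y) = h.tp (lam u) (S y) := fun u y => by
    simp only [e₁, hlamdef, hSdef, hS₁def, LinearMap.smul_apply, map_smul, smul_smul]
    congr 1
    linear_combination (-(r * r⁻¹)) * haa
  have hll : ∀ u, lam (lam u) = u := fun u => by
    simp only [hlamdef, LinearMap.smul_apply, map_smul, smul_smul, hl2]
    rw [show a * r⁻¹ * (a * r⁻¹ * c) = 1 by
      rw [← hr]; field_simp; linear_combination haa, one_smul]
  have hSS : ∀ y, S (S y) = y := fun y => by
    simp only [hSdef, LinearMap.smul_apply, map_smul, smul_smul, hS₁S, haa, one_smul]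
  have hgS' : ∀ y y', h.gW (S y) (S y') = h.gW y y' := fun y y' => by
    simp only [hSdef, LinearMap.smul_apply, map_smul, smul_eq_mul, hg₁, ← mul_assoc, haa, one_mul]
  have hSw' : S w = w := by rw [hSdef, LinearMap.smul_apply, hSw, smul_smul, haa, one_smul]
  have hSv' : S v = v := by rw [hSdef, LinearMap.smul_apply, hSv, smul_smul, haa, one_smul]
  -- vectors of the range killed by the long element come from it
  have hfix : ∀ T, τ T = -T → E T = T := fun T hT => by
    rw [hτ] at hT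
    have : (2 : F) • E T = (2 : F) • T := by
      rw [two_smul, two_smul]; linear_combination (norm := abel) -hT
    exact smul_right_injective V h2 this
  have hout : ∀ u y, τ (h.tp u y) = -h.tp u y → h.gW w y = 0 → h.gW v y = 0 → ∀ x, h.gW w x = 0 → h.gW v x = 0 →
      h.gW x y • u = 0 := fun u y hT hwy hvy x hwx hvx => by
    obtain ⟨T, -, hT'⟩ := hkX _ (hfix _ hT) (by rw [lg_tp, hwy, hvy]; simp)
    rw [← h.c_tp, ← hT']
    simp [lg, P_apply, h.g_sym x w, h.g_sym x v, hwx, hvx]
  have hlam : ∀ u, lam u = -u := by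
    by_cases hS1 : ∀ y, S y = y
    · exfalso
      obtain ⟨u, hu⟩ : ∃ u, lam u ≠ u := by
        by_contra hno
        push Not at hno
        refine hE0 (h.ext_tp fun u y => ?_)
        have e' := eτ u y
        rw [hno, hS1, hτ] at e'
        have : (2 : F) • E (h.tp u y) = 0 := by
          rw [two_smul]; linear_combination (norm := abel) -e'
        rw [LinearMap.zero_apply]
        exact (smul_eq_zero.1 this).resolve_left h2
      obtain ⟨b, hwb, hvb, hbb⟩ := h.gN.exists_aniso_perp_two h5 w v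
      have := hout (u - lam u) b (by
        rw [eτ, hS1, map_sub, hll, ← LinearMap.neg_apply, ← map_neg, neg_sub]) hwb hvb b hwb hvb
      rw [smul_eq_zero, or_iff_right hbb, sub_eq_zero] at this
      exact hu this.symm
    push Not at hS1
    obtain ⟨y, hy⟩ := hS1
    set z := y - S y with hz
    have hSz : S z = -z := by rw [hz, map_sub, hSS, neg_sub]
    have hperp : ∀ q, S q = q → h.gW q z = 0 := fun q hq => by
      have := hgS' q z
      rw [hq, hSz, map_neg] at this
      exact (mul_eq_zero.1 (show (2 : F) * h.gW q z = 0 by linear_combination -this)).resolve_left h2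
    intro u
    have hu : u + lam u = 0 := by
      by_contra hne
      have key := hout (u + lam u) z (by
        rw [eτ, hSz, map_add lam, hll, add_comm (lam u), map_neg]) (hperp w hSw') (hperp v hSv')
      have hzL := h.gN.eq_of_perp_pair hp.ww' hp.wv' hp.vw' hp.vv' (y := z) fun x hwx hvx =>
        (smul_eq_zero.1 (key x hwx hvx)).resolve_right hne
      have hzz : S z = z := by rw [hzL, map_add, map_smul, map_smul, hSw', hSv']
      have : z = 0 := by
        have : (2 : F) • z = 0 := by rw [two_smul]; nth_rewrite 1 [← hzz]; rw [hSz, neg_add_cancel]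
        exact (smul_eq_zero.1 this).resolve_left h2
      exact hy (sub_eq_zero.1 this).symm
    exact eq_neg_of_add_eq_zero_right hu
  -- the four dimensions
  set P := LinearMap.ker (S - 1) with hPdef
  have hmP : ∀ {y}, y ∈ P ↔ S y = y := fun {y} => by simp [hPdef, sub_eq_zero]
  have hPL : P ⊓ LinearMap.ker (h.gW w) ⊓ LinearMap.ker (h.gW v) ≤ Submodule.span F {w, v} := by
    rintro y ⟨⟨hy, hwy⟩, hvy⟩
    have key := hout u₁ y (by rw [eτ, hlam, hmP.1 hy, map_neg, LinearMap.neg_apply]) hwy hvy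
    rw [h.gN.eq_of_perp_pair hp.ww' hp.wv' hp.vw' hp.vv' (y := y) fun x hwx hvx =>
      (smul_eq_zero.1 (key x hwx hvx)).resolve_right hu₁]
    exact add_mem (Submodule.smul_mem _ _ (Submodule.subset_span (Or.inl rfl)))
      (Submodule.smul_mem _ _ (Submodule.subset_span (Or.inr rfl)))
  refine ⟨P, hmP.2 hSw', hmP.2 hSv', ?_, fun x hx T => ?_⟩
  · have i1 := Nice.finrank_ker_inf P (h.gW w)
    have i2 := Nice.finrank_ker_inf (P ⊓ LinearMap.ker (h.gW w)) (h.gW v)
    have i3 := Submodule.finrank_mono hPL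
    have i4 : Module.finrank F (Submodule.span F ({w, v} : Set W)) ≤ 2 := by
      rw [Submodule.span_insert]
      refine (Submodule.finrank_add_le_finrank_add_finrank _ _).trans ?_
      have := finrank_span_singleton (K := F) hp.w0
      have : Module.finrank F (Submodule.span F {v}) ≤ 1 := by
        simpa using finrank_span_le_card ({v} : Set W)
      omega
    omega
  · have hEtp : ∀ u y, E (h.tp u y) = h.tp u ((2 : F)⁻¹ • (y + S y)) := fun u y => by
      have e' := eτ u y
      rw [hlam, map_neg, LinearMap.neg_apply, hτ] at e'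
      rw [map_smul, eq_inv_smul_iff₀ h2, two_smul, map_add]
      linear_combination (norm := abel) -e'
    have hYE : LinearMap.range Y ≤ LinearMap.range E := by
      refine range_le_of_invariant hEE (lg_sq hp) (conj_sq hp₀ hY) hcX hcY hkX hkY ?_ ?_
      · rw [range_lg hp]
        refine sup_le ?_ ?_ <;> rintro _ ⟨u, rfl⟩
        · refine ⟨h.tp u w, (hEtp u w).trans ?_⟩
          rw [hSw', ← two_smul F, smul_smul, inv_mul_cancel₀ h2, one_smul]; rfl
        · refine ⟨h.tp u v, (hEtp u v).trans ?_⟩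
          rw [hSv', ← two_smul F, smul_smul, inv_mul_cancel₀ h2, one_smul]; rfl
      · rw [range_conj hp₀ hY, LinearEquiv.finrank_map_eq, range_lg hp, finrank_sup_A hp₀.w0 hp₀.vn,
          finrank_sup_A hp.w0 hp.vn]
    obtain ⟨T', hT'⟩ := hYE ⟨T, rfl⟩
    rw [← hT']
    refine LinearMap.congr_fun (h.ext_tp (φ := h.c x ∘ₗ E) (ψ := 0) fun u y => ?_) T'
    rw [LinearMap.comp_apply, hEtp, h.c_tp, LinearMap.zero_apply]
    have := LinearMap.BilinForm.mem_orthogonal_iff.1 hx _ (hmP.2 (show S ((2 : F)⁻¹ • (y + S y)) = _ by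
      rw [map_smul, map_add, hSS, add_comm]))
    rw [h.g_sym, this, zero_smul]

include hp₀ hk in
/-- The element is a product. -/
theorem pure_all (hodd : Odd (Module.finrank F U) ∨ Odd (Module.finrank F W)) : h.Pure k := by
  classical
  by_contra hnp
  set Y : Module.End F V := k.toLinearMap * h.lg w₀ v₀ 1 * k.symm.toLinearMap with hYdef
  have hY : ∀ T, k (h.lg w₀ v₀ 1 T) = Y (k T) := fun T => by
    simp [hYdef, Module.End.mul_apply]
  set N : Submodule F W :=
    { carrier := {x | ∀ T, h.c x (Y T) = 0}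
      add_mem' := fun {a b} ha hb T => by rw [map_add, LinearMap.add_apply, ha T, hb T, add_zero]
      zero_mem' := fun T => by rw [map_zero, LinearMap.zero_apply]
      smul_mem' := fun s a ha T => by rw [map_smul, LinearMap.smul_apply, ha T, smul_zero] } with hNdef
  have hrefl : h.gW.IsRefl := fun a b e => by rw [h.g_sym, e]
  set S₀ := h.gW.orthogonal N with hS₀
  have hfour : ∀ {w v w' v' : W}, h.IsoPair w v w' v' → ∃ P : Submodule F W, w ∈ P ∧ v ∈ P ∧ S₀ ≤ P ∧
      Module.finrank F P ≤ 4 := fun hp => by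
    obtain ⟨P, hwP, hvP, hP4, hPN⟩ := exists_four hG h5 hS hUW hp₀ hk hY hodd hnp hp
    refine ⟨P, hwP, hvP, ?_, hP4⟩
    rw [← LinearMap.BilinForm.orthogonal_orthogonal h.gN.nd hrefl P]
    exact LinearMap.BilinForm.orthogonal_le fun x hx => hPN x hx
  by_cases h3 : 3 ≤ Module.finrank F S₀
  · obtain ⟨w, v, hw0, hw, hv, hwv, hn, hfar⟩ := h.gN.exists_pair_far h5 h3
    obtain ⟨w', v', hp⟩ := exists_duals (h := h) hw0 hw hv hwv hn
    obtain ⟨P, hwP, hvP, hSP, hP4⟩ := hfour hp
    have := hfar P hSP hwP hvP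
    omega
  have hkill : ∀ {T x}, T ∈ LinearMap.range Y → x ∈ h.gW.orthogonal S₀ → h.c x T = 0 := by
    rintro T x ⟨R, rfl⟩ hx
    rw [hS₀, LinearMap.BilinForm.orthogonal_orthogonal h.gN.nd hrefl N] at hx
    exact hx R
  have hrk : Module.finrank F (LinearMap.range Y) = 2 * Module.finrank F U := by
    rw [range_conj hp₀ hY, LinearEquiv.finrank_map_eq, finrank_sup_A hp₀.w0 hp₀.vn]
  have hne : ∀ a, a ≠ 0 → ¬ S₀ ≤ Submodule.span F {a} := fun a ha hle => by
    have : LinearMap.range Y ≤ h.A a := fun T hT => h.mem_A_of_c ha fun x hx => hkill hT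
      (LinearMap.BilinForm.orthogonal_le hle (LinearMap.BilinForm.mem_orthogonal_iff.2 fun q hq => by
        obtain ⟨s, rfl⟩ := Submodule.mem_span_singleton.1 hq
        show h.gW (s • a) x = 0
        rw [map_smul, LinearMap.smul_apply, h.g_sym a x, hx, smul_zero]))
    have := Submodule.finrank_mono this
    rw [hrk, h.finrank_A ha] at this
    have : 0 < Module.finrank F U := Module.finrank_pos
    omega
  obtain ⟨a, haS, ha0⟩ : ∃ a ∈ S₀, a ≠ 0 := by
    obtain ⟨q, hq⟩ := exists_ne (0 : W)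
    by_contra hno
    push Not at hno
    exact hne q hq fun x hx => by rw [hno x hx]; exact zero_mem _
  obtain ⟨b, hbS, hba⟩ : ∃ b ∈ S₀, b ∉ Submodule.span F {a} := by
    by_contra hno
    push Not at hno
    exact hne a ha0 hno
  have hSab : S₀ = Submodule.span F {a} ⊔ Submodule.span F {b} := by
    refine (Submodule.eq_of_le_of_finrank_le (sup_le ((Submodule.span_singleton_le_iff_mem _ _).2 haS)
      ((Submodule.span_singleton_le_iff_mem _ _).2 hbS)) ?_).symm
    have := Submodule.finrank_lt_finrank_of_lt (lt_of_le_of_ne (le_sup_left (b := Submodule.span F {b}))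
      fun e' => hba (e'.ge (Submodule.mem_sup_right (Submodule.mem_span_singleton_self b))))
    rw [finrank_span_singleton ha0] at this
    omega
  -- the image is the product with the two dimensions
  obtain ⟨a', ha'b, ha'a⟩ := h.gN.exists_perp_one (fun hm => hba (by
    obtain ⟨s, hs⟩ := Submodule.mem_span_singleton.1 hm
    have hs0 : s ≠ 0 := fun e' => ha0 (by rw [← hs, e', zero_smul])
    exact Submodule.mem_span_singleton.2 ⟨s⁻¹, by rw [← hs, smul_smul, inv_mul_cancel₀ hs0, one_smul]⟩) :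
      a ∉ Submodule.span F {b})
  obtain ⟨b', hb'a, hb'b⟩ := h.gN.exists_perp_one hba
  have hle : LinearMap.range Y ≤ h.A a ⊔ h.A b := fun T hT => by
    have eT : T = h.tp (h.c a' T) a + h.tp (h.c b' T) b := by
      refine sub_eq_zero.1 (h.eq_zero_of_c fun x => ?_)
      have := hkill hT (x := x - h.gW x a • a' - h.gW x b • b') (LinearMap.BilinForm.mem_orthogonal_iff.2
        fun q hq => by
          rw [hSab, Submodule.mem_sup] at hq
          obtain ⟨_, hq1, _, hq2, rfl⟩ := hq
          obtain ⟨s, rfl⟩ := Submodule.mem_span_singleton.1 hq1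
          obtain ⟨s', rfl⟩ := Submodule.mem_span_singleton.1 hq2
          show h.gW (s • a + s' • b) _ = 0
          simp [h.g_sym a x, h.g_sym b x, h.g_sym a a', ha'a, h.g_sym b a', ha'b, h.g_sym a b', hb'a,
            h.g_sym b b', hb'b])
      simp only [map_sub, map_smul, LinearMap.sub_apply, LinearMap.smul_apply] at this
      simp only [map_sub, map_add, c_tp]
      linear_combination (norm := module) this
    rw [eT]
    exact add_mem (Submodule.mem_sup_left (h.tp_mem_A _ _)) (Submodule.mem_sup_right (h.tp_mem_A _ _))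
  have hran : LinearMap.range Y = h.A a ⊔ h.A b :=
    Submodule.eq_of_le_of_finrank_le hle (by rw [finrank_sup_A ha0 hba, hrk])
  have hX0 : ∀ T T', polar Q (h.lg w₀ v₀ 1 T) (h.lg w₀ v₀ 1 T') = 0 := fun T T' => by
    simp [lg, P_apply, sub_eq_add_neg, QuadraticMap.polar_add_left, QuadraticMap.polar_add_right,
      QuadraticMap.polar_neg_left, QuadraticMap.polar_neg_right, h.pol, hp₀.ww, hp₀.vv, hp₀.wv, h.g_sym v₀ w₀]
  have hiso : ∀ T T', polar Q (Y T) (Y T') = 0 := fun T T' => by
    obtain ⟨R, rfl⟩ := k.surjective T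
    obtain ⟨R', rfl⟩ := k.surjective T'
    rw [← hY, ← hY, orth_polar (hG.le hk), hX0]
  obtain ⟨e₂, he₂⟩ := h.fN.exists_aniso
  have hS2iso : ∀ x y, (x = a ∨ x = b) → (y = a ∨ y = b) → h.gW x y = 0 := fun x y hx hy => by
    obtain ⟨T, hT⟩ : h.tp e₂ x ∈ LinearMap.range Y := hran ▸ (by
      rcases hx with rfl | rfl
      exacts [Submodule.mem_sup_left (h.tp_mem_A _ _), Submodule.mem_sup_right (h.tp_mem_A _ _)])
    obtain ⟨T', hT'⟩ : h.tp e₂ y ∈ LinearMap.range Y := hran ▸ (by
      rcases hy with rfl | rfl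
      exacts [Submodule.mem_sup_left (h.tp_mem_A _ _), Submodule.mem_sup_right (h.tp_mem_A _ _)])
    have := h.pol e₂ e₂ x y
    rw [← hT, ← hT', hiso] at this
    exact (mul_eq_zero.1 this.symm).resolve_left he₂
  obtain ⟨a'', b'', hq⟩ := exists_duals (h := h) ha0 (hS2iso a a (Or.inl rfl) (Or.inl rfl))
    (hS2iso b b (Or.inr rfl) (Or.inr rfl)) (hS2iso a b (Or.inl rfl) (Or.inr rfl)) hba
  refine not_nilpotent hG h5 hS hUW hp₀ hk hY hnp hq ?_
  rw [← range_lg hq] at hran
  have hkerX : ∀ T, T ∈ LinearMap.range Y → h.lg a b 1 T = 0 := fun T hT => by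
    obtain ⟨R, rfl⟩ := hran ▸ hT
    exact LinearMap.congr_fun (lg_sq hq) R
  have hkerY : ∀ T, T ∈ LinearMap.range Y → Y T = 0 := fun T ⟨R, hR⟩ => by
    rw [← hR]; exact LinearMap.congr_fun (conj_sq hp₀ hY) R
  rw [show h.lg a b 1 * Y = 0 from LinearMap.ext fun T => hkerX _ ⟨T, rfl⟩,
    show Y * h.lg a b 1 = 0 from LinearMap.ext fun T => hkerY _ (hran ▸ ⟨T, rfl⟩), add_zero]
  exact IsNilpotent.zero

end TData

end CfsgLib.TensorOO
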