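import Cfsg.Agent.Lib.OrthMax.TensorOO.Bridge
import Cfsg.Agent.Lib.OrthMax.TensorOO.Quad.Even
import Cfsg.Agent.Lib.OrthMax.TensorOO.Quad.Support

/-! Groups containing the stabiliser of a product of orthogonal spaces of different dimensions, one odd. -/

set_option autoImplicit false
set_option linter.unusedSectionVars false
set_option linter.unusedVariables false
set_option linter.unusedSimpArgs false

namespace CfsgLib.TensorOO

open QuadraticMap CfsgLib.Geometry CfsgLib.OrthMax
open LinearMap (BilinForm)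

variable {F V U W : Type*} [Field F] [Finite F] [AddCommGroup V] [Module F V] [AddCommGroup U] [Module F U]
  [AddCommGroup W] [Module F W]
variable [FiniteDimensional F V] [FiniteDimensional F U] [FiniteDimensional F W]
variable {Q : QuadraticForm F V} {M : Subgroup (V ≃ₗ[F] V)}

namespace TData

variable {h : TData Q U W}

/-- Scalar members leave only products. -/
theorem all_pure_quad [Nontrivial U] [Nontrivial W] (hG : h.Gens M) (h5 : 5 ≤ Module.finrank F W) (hS : h.Scal M)
    (hUW : Module.finrank F U < Module.finrank F W) (hodd : Odd (Module.finrank F U) ∨ Odd (Module.finrank F W))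
    {g : V ≃ₗ[F] V} (hg : g ∈ M) : h.Pure g := by
  obtain ⟨w, -, hw0, hw⟩ := Nice.exists_iso_in h.gW (⊤ : Submodule F W) (by rw [finrank_top]; omega)
  obtain ⟨v, hwv, hv, hn⟩ := h.gN.exists_iso_perp h5 hw0 hw
  obtain ⟨w', v', hp⟩ := exists_duals (h := h) hw0 hw hv hwv hn
  exact pure_all hG h5 hS hUW hp hg hodd

/-- An odd factor below a larger one. -/
theorem dichotomy_odd_small (hG : h.Gens M) (h3 : 3 ≤ Module.finrank F U) (hU : Odd (Module.finrank F U))
    (hUW : Module.finrank F U < Module.finrank F W) (h5 : 5 ≤ Module.finrank F W)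
    (hex : 5 ≤ Module.finrank F U ∨ ∃ s : F, s ≠ 0 ∧ s * s ≠ 1) : siegelGroup Q ≤ M ∨ ∀ g ∈ M, h.Pure g := by
  haveI : Nontrivial U := Module.nontrivial_of_finrank_pos (R := F) (by omega)
  haveI : Nontrivial W := Module.nontrivial_of_finrank_pos (R := F) (by omega)
  exact (top_or_scal hG h5 h3 hU hex).imp_right fun hS g hg => all_pure_quad hG h5 hS hUW (Or.inl hU) hg

/-- A small even factor below an odd one. -/
theorem dichotomy_even_small (hG : h.Gens M) (h4 : 4 ≤ Module.finrank F U) (hW : Odd (Module.finrank F W))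
    (hUW : Module.finrank F U < Module.finrank F W)
    (hshape : 6 ≤ Module.finrank F U ∨
      ∀ z p : U, z ≠ 0 → h.fU z z = 0 → h.fU p p = 0 → h.fU z p = 0 → p ∈ Submodule.span F {z}) :
    siegelGroup Q ≤ M ∨ ∀ g ∈ M, h.Pure g := by
  haveI : Nontrivial U := Module.nontrivial_of_finrank_pos (R := F) (by omega)
  haveI : Nontrivial W := Module.nontrivial_of_finrank_pos (R := F) (by omega)
  have h5 : 5 ≤ Module.finrank F W := by omega
  exact (top_or_scal4 hG h5 h4 hshape).imp_right fun hS g hg => all_pure_quad hG h5 hS hUW (Or.inr hW) hg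

theorem Pure.of_swap {g : V ≃ₗ[F] V} (hg : h.swap.Pure g) : h.Pure g := by
  obtain ⟨lam, S, e⟩ := hg
  exact ⟨S, lam, fun u y => e y u⟩

end TData

open Cfsg Cfsg.Geo

universe u

/-- The stabiliser of a product of an odd and an even orthogonal space is maximal. -/
theorem tensor_maximal_odd_even {F : Type u} [Field F] [Fintype F] {ι : Type} [Fintype ι] [DecidableEq ι]
    {n₁ n₂ : ℕ} {Q : QuadraticForm F (ι → F)} (hQ : (polarBilin Q).Nondegenerate) (hι : 13 ≤ Fintype.card ι)
    (h2 : (2 : F) ≠ 0) (h1 : 3 ≤ n₁) (h1o : Odd n₁) (h4 : 4 ≤ n₂) (h2e : Even n₂)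
    (hex : ¬ (Fintype.card F = 3 ∧ n₁ = 3)) (e : ι ≃ Fin n₁ × Fin n₂) (P : Matrix.GeneralLinearGroup ι F)
    {f₁ : (Fin n₁ → F) → (Fin n₁ → F) → F} {f₂ : (Fin n₂ → F) → (Fin n₂ → F) → F}
    (hf₁ : IsSymmetricForm f₁) (hf₂ : IsSymmetricForm f₂)
    (hf₂m : n₂ = 4 → ¬ IsPlusTypeOn (fun v : Fin n₂ → F => f₂ v v) ⊤)
    (hT : IsTensorFormStructure id (polar ⇑Q) f₁ f₂ e P) :
    IsMaximalIn (omegaGL ⇑Q) (tensorProductSubgroup n₁ n₂ e P ⊓ omegaGL ⇑Q) := by
  obtain ⟨a, rfl⟩ := h1o
  obtain ⟨b, rfl⟩ := h2e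
  have hcard : Fintype.card ι = (2 * a + 1) * (b + b) := by simpa using Fintype.card_congr e
  refine tensor_maximal_of hQ (by omega) h2 (by omega) (by omega) e P hf₁ hf₂ hT fun h N hgW hG => ?_
  rcases lt_or_gt_of_ne (show 2 * a + 1 ≠ b + b by omega) with hlt | hlt
  · have h5 : 5 ≤ b + b := by
      by_contra hb
      have : b = 2 ∧ a = 1 := by omega
      rw [this.1, this.2] at hcard
      omega
    exact TData.dichotomy_odd_small hG (by simpa using h1) (by simp) (by simpa using hlt) (by simpa using h5)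
      (exists_small h2 h1 ⟨a, rfl⟩ hex)
  · refine (TData.dichotomy_even_small (h := h.swap) hG.swap (by simpa using h4) (by simp) (by simpa using hlt)
      ?_).imp_right fun hall g hg => TData.Pure.of_swap (hall g hg)
    by_cases h6 : 6 ≤ b + b
    · exact Or.inl (by simpa using h6)
    refine Or.inr fun z p hz0 hz hp hzp => by_contra fun hn => hf₂m (by omega)
      ⟨Submodule.span F {z} ⊔ Submodule.span F {p}, le_top, fun x hx => ?_, ?_⟩
    · obtain ⟨_, hq1, _, hq2, rfl⟩ := Submodule.mem_sup.1 hx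
      obtain ⟨s, rfl⟩ := Submodule.mem_span_singleton.1 hq1
      obtain ⟨t, rfl⟩ := Submodule.mem_span_singleton.1 hq2
      have hpz : h.gW p z = 0 := by rw [h.g_sym]; exact hzp
      show TensorSp.bil hf₂.bilinear (s • z + t • p) (s • z + t • p) = 0
      rw [← hgW]
      simp [show h.gW z z = 0 from hz, show h.gW p p = 0 from hp, show h.gW z p = 0 from hzp, hpz]
    · have hlt' : Submodule.span F {z} < Submodule.span F {z} ⊔ Submodule.span F {p} :=
        lt_of_le_of_ne le_sup_left fun e' => hn (e'.ge (Submodule.mem_sup_right (Submodule.mem_span_singleton_self p)))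
      have i1 := Submodule.finrank_lt_finrank_of_lt hlt'
      have i2 := Submodule.finrank_add_le_finrank_add_finrank (Submodule.span F {z}) (Submodule.span F {p})
      have hp0 : p ≠ 0 := fun e' => hn (e' ▸ zero_mem _)
      rw [finrank_span_singleton hz0] at i1 i2
      rw [finrank_span_singleton hp0] at i2
      rw [finrank_top, Module.finrank_fin_fun]
      omega

end CfsgLib.TensorOO
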