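import Cfsg.Agent.Lib.OrthMax.TensorOO.Pure

/-! The radical of the stabiliser of a totally singular pair, when all members are scalars. -/

set_option autoImplicit false
set_option linter.unusedSectionVars false
set_option linter.unusedVariables false
set_option linter.unusedSimpArgs false

namespace CfsgLib.TensorOO

open QuadraticMap CfsgLib.Geometry CfsgLib.OrthMax
open CfsgLib.TensorSp (In)
open LinearMap (BilinForm)

variable {F V U W : Type*} [Field F] [Finite F] [AddCommGroup V] [Module F V] [AddCommGroup U] [Module F U]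
  [AddCommGroup W] [Module F W]
variable [FiniteDimensional F V] [FiniteDimensional F U] [FiniteDimensional F W]
variable {Q : QuadraticForm F V} {M : Subgroup (V ≃ₗ[F] V)}

namespace TData

variable (h : TData Q U W)

/-- An isotropic pair with duals. -/
structure IsoPair (w v w' v' : W) : Prop where
  ww : h.gW w w = 0
  vv : h.gW v v = 0
  wv : h.gW w v = 0
  ww' : h.gW w w' = 1
  wv' : h.gW w v' = 0
  vw' : h.gW v w' = 0
  vv' : h.gW v v' = 1

variable {h}

theorem IsoPair.swap {w v w' v' : W} (hp : h.IsoPair w v w' v') : h.IsoPair v w v' w' :=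
  ⟨hp.vv, hp.ww, by rw [h.g_sym, hp.wv], hp.vv', hp.vw', hp.wv', hp.ww'⟩

theorem IsoPair.w0 {w v w' v' : W} (hp : h.IsoPair w v w' v') : w ≠ 0 := fun e => by
  simpa [e] using hp.ww'

theorem IsoPair.vn {w v w' v' : W} (hp : h.IsoPair w v w' v') : v ∉ Submodule.span F {w} := fun hm => by
  obtain ⟨s, rfl⟩ := Submodule.mem_span_singleton.1 hm
  simpa [hp.wv'] using hp.vv'

theorem exists_duals {w v : W} (hw0 : w ≠ 0) (hw : h.gW w w = 0) (hv : h.gW v v = 0) (hwv : h.gW w v = 0)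
    (hvn : v ∉ Submodule.span F {w}) : ∃ w' v', h.IsoPair w v w' v' := by
  have hwn : w ∉ Submodule.span F {v} := fun hm => hvn (by
    obtain ⟨s, hs⟩ := Submodule.mem_span_singleton.1 hm
    have hs0 : s ≠ 0 := fun e => hw0 (by rw [← hs, e, zero_smul])
    exact Submodule.mem_span_singleton.2 ⟨s⁻¹, by rw [← hs, smul_smul, inv_mul_cancel₀ hs0, one_smul]⟩)
  obtain ⟨v', -, h1, h2⟩ := h.gN.exists_partner_perp hv hwv hvn
  obtain ⟨w', -, h3, h4⟩ := h.gN.exists_partner_perp hw (by rw [h.g_sym, hwv]) hwn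
  exact ⟨w', v', hw, hv, hwv, h3, h2, h4, h1⟩

/-- A vector killed by every contraction orthogonal to the pair. -/
theorem eq_pair_decomp {w v w' v' : W} (hp : h.IsoPair w v w' v') {T : V}
    (e : ∀ x, h.gW w x = 0 → h.gW v x = 0 → h.c x T = 0) :
    T = h.tp (h.c w' T) w + h.tp (h.c v' T) v := by
  refine sub_eq_zero.1 (h.eq_zero_of_c fun x => ?_)
  have h1 := e (x - h.gW w x • w' - h.gW v x • v') (by simp [hp.ww', hp.wv']) (by simp [hp.vw', hp.vv'])
  simp only [map_sub, map_smul, LinearMap.sub_apply, LinearMap.smul_apply] at h1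
  simp only [map_sub, map_add, c_tp, h.g_sym x w, h.g_sym x v]
  linear_combination (norm := module) h1

/-- Elements trivial on the pair, its orthogonal and the quotient, up to the pair. -/
structure RadTwo (h : TData Q U W) (M : Subgroup (V ≃ₗ[F] V)) (w v : W) (X : Module.End F V) : Prop where
  mem : In M X
  hAw : ∀ u, X (h.tp u w) = 0
  hAv : ∀ u, X (h.tp u v) = 0
  hP : ∀ u y x, h.gW w y = 0 → h.gW v y = 0 → h.gW w x = 0 → h.gW v x = 0 → h.c x (X (h.tp u y)) = 0
  hVw : ∀ T, h.c w (X T) = 0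
  hVv : ∀ T, h.c v (X T) = 0

theorem RadTwo.swap {w v : W} {X : Module.End F V} (hX : h.RadTwo M w v X) : h.RadTwo M v w X :=
  ⟨hX.mem, hX.hAv, hX.hAw, fun u y x a b c d => hX.hP u y x b a d c, hX.hVv, hX.hVw⟩

variable [Nontrivial U] [Nontrivial W] (hG : h.Gens M) (h5 : 5 ≤ Module.finrank F W) (hS : h.Scal M)

include hG h5 hS

omit h5 hS in
/-- Contraction of the image at a vector orthogonal to the pair. -/
theorem RadTwo.c_apply {w v w' v' : W} (hp : h.IsoPair w v w' v') {X : Module.End F V} (hX : h.RadTwo M w v X)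
    {b : W} (hwb : h.gW w b = 0) (hvb : h.gW v b = 0) {Dw Dv : Module.End F U}
    (hD : ∀ u, X (h.tp u b) = h.tp (Dw u) w + h.tp (Dv u) v) (T : V) :
    h.c b (X T) = - h.adj Dw (h.c w T) - h.adj Dv (h.c v T) := h.ext_f fun u => by
  have := hX.mem.polar_eq hG.le (h.tp u b) T
  rw [hD, polar_add_left, polar_add_left, h.polar_tp, h.polar_tp, h.polar_tp, h.polar_tp, h.polar_tp, hX.hVw, hX.hVv, map_zero, map_zero] at this
  rw [map_sub, map_neg, h.adj_spec', h.adj_spec']
  linear_combination this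

/-- The centre: an element killing the whole orthogonal of the pair. -/
theorem RadTwo.center {w v w' v' : W} (hp : h.IsoPair w v w' v') {X : Module.End F V} (hX : h.RadTwo M w v X)
    (h0 : ∀ u y, h.gW w y = 0 → h.gW v y = 0 → X (h.tp u y) = 0) : ∃ s : F, X = h.lg w v (s • 1) := by
  have h2 := h.h2
  have himg : ∀ T x, h.gW w x = 0 → h.gW v x = 0 → h.c x (X T) = 0 := fun T x hwx hvx => by
    simpa using hX.c_apply hG hp hwx hvx (Dw := 0) (Dv := 0) (fun u => by simp [h0 u x hwx hvx]) T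
  let A : W → W → Module.End F U := fun p q => h.c p ∘ₗ X ∘ₗ h.tp.flip q
  have hA : ∀ p q u, A p q u = h.c p (X (h.tp u q)) := fun p q u => rfl
  have hdec : ∀ T, X T = h.tp (h.c w' (X T)) w + h.tp (h.c v' (X T)) v := fun T => eq_pair_decomp hp (himg T)
  have hadj : ∀ q T, h.c q (X T) = - h.adj (A w' q) (h.c w T) - h.adj (A v' q) (h.c v T) := fun q T =>
    h.ext_f fun u => by
      have := hX.mem.polar_eq hG.le (h.tp u q) T
      rw [hdec (h.tp u q), polar_add_left, polar_add_left, h.polar_tp, h.polar_tp, h.polar_tp, h.polar_tp, h.polar_tp,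
        hX.hVw, hX.hVv, map_zero, map_zero, ← hA, ← hA] at this
      rw [map_sub, map_neg, h.adj_spec', h.adj_spec']
      linear_combination this
  set G1 := A w' w' with hG1
  set G2 := A v' v' with hG2
  set D := A w' v' with hD
  have e1 : h.adj G1 = -G1 := LinearMap.ext fun u => by
    have := hadj w' (h.tp u w')
    rw [← hA, h.c_tp, h.c_tp, hp.ww', hp.vw', one_smul, zero_smul, map_zero, sub_zero] at this
    rw [LinearMap.neg_apply, this, neg_neg]
  have e2 : h.adj G2 = -G2 := LinearMap.ext fun u => by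
    have := hadj v' (h.tp u v')
    rw [← hA, h.c_tp, h.c_tp, hp.wv', hp.vv', one_smul, zero_smul, map_zero, neg_zero, zero_sub] at this
    rw [LinearMap.neg_apply, this, neg_neg]
  have e3 : A v' w' = - h.adj D := LinearMap.ext fun u => by
    have := hadj v' (h.tp u w')
    rw [← hA, h.c_tp, h.c_tp, hp.ww', hp.vw', one_smul, zero_smul, map_zero, sub_zero] at this
    exact this
  have hX' : X = h.P w w G1 + h.P v v G2 + h.lg w v D := LinearMap.ext fun T => by
    rw [hdec T, hadj, hadj, ← hG1, ← hG2, ← hD, e1, e2, e3, adj_neg, adj_adj]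
    simp only [lg, LinearMap.add_apply, LinearMap.sub_apply, P_apply, LinearMap.neg_apply, neg_neg, map_sub, map_add,
      map_neg]
    abel
  have kill : ∀ {p q p' q' : W} {G E : Module.End F U}, h.IsoPair p q p' q' → h.adj G = -G →
      In M (h.P p p G + h.P q q E + h.lg p q D ) → h.adj E = -E → G = 0 := by
    intro p q p' q' G E hq hGa hmem hEa
    have hpn : p ∉ Submodule.span F {q} := fun hm => hq.swap.vn hm
    obtain ⟨a, haq, hap⟩ := h.gN.exists_perp_one hpn
    set Z := fun s : F => h.P (p + s • q) (p + s • q) G + h.P q q E + h.lg (p + s • q) q D with hZ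
    have mv : ∀ s : F, In M (Z s) := fun s => by
      have hs : h.gW q (s • a) = 0 := by rw [map_smul, h.g_sym, haq, smul_zero]
      have hρ : h.shW q (s • a) p = p + s • q := by simp [shW_apply, h.g_sym q p, hq.wv, hap, smul_smul]
      have hρ' : h.shW q (s • a) q = q := by simp [shW_apply, hq.vv, haq]
      obtain ⟨k, hk, ek⟩ := act_sh hG hq.vv hs
      refine hmem.conj hk fun T => ?_
      simp only [hZ, lg, LinearMap.add_apply, LinearMap.sub_apply, map_add, map_sub, P_act hG.le hk ek, hρ, hρ']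
    have hmul : ∀ s t : F, Z s * Z t = 0 := fun s t => LinearMap.ext fun T => by
      have hqp : h.gW q p = 0 := by rw [h.g_sym, hq.wv]
      simp [hZ, lg, P_apply, Module.End.mul_apply, hq.ww, hq.vv, hq.wv, hqp]
    have := ((mv 1).add (mv (-1)) (hmul _ _)).add ((mv 0).neg (hmul _ _) |> fun hn => hn.add hn
      (by rw [neg_mul_neg, hmul])) (by rw [add_mul, mul_add, mul_add, mul_neg, mul_neg, hmul, hmul]; simp)
    have h2G : In M (h.P q q ((2 : F) • G)) := by
      refine Eq.subst (motive := fun X => In M X) (LinearMap.ext fun T => ?_) this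
      simp [hZ, lg, P_apply, hGa, hEa]
      module
    obtain ⟨s, hs⟩ := hS _ (InD.of_pww hG h5 (by rw [adj_smul, hGa, smul_neg]) hq.swap.w0 hq.vv h2G)
    have h' := congrArg h.adj hs
    rw [adj_smul, adj_smul, hGa, adj_one, smul_neg, hs] at h'
    obtain ⟨u, hu⟩ := exists_ne (0 : U)
    have h'' := LinearMap.congr_fun h' u
    simp only [LinearMap.neg_apply, LinearMap.smul_apply, Module.End.one_apply] at h''
    have : (2 * s) • u = 0 := by rw [two_mul, add_smul]; nth_rewrite 1 [← h'']; abel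
    have hs0 := (mul_eq_zero.1 ((smul_eq_zero.1 this).resolve_right hu)).resolve_left h2
    rw [hs0, zero_smul] at hs
    exact (smul_eq_zero.1 hs).resolve_left h2
  have hG10 : G1 = 0 := kill hp e1 (hX' ▸ hX.mem) e2
  have hmem := hX' ▸ hX.mem
  rw [hG10, show h.P w w 0 = 0 from LinearMap.ext fun T => by simp [P_apply], zero_add] at hmem hX'
  have hG20 : G2 = 0 := by
    have hmv : ∀ s : F, In M (h.P (v + s • w) (v + s • w) G2 + h.lg w (v + s • w) D) := fun s => by
      obtain ⟨a, haw, hav⟩ := h.gN.exists_perp_one hp.vn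
      have hs : h.gW w (s • a) = 0 := by rw [map_smul, h.g_sym, haw, smul_zero]
      have hρ : h.shW w (s • a) v = v + s • w := by simp [shW_apply, hp.wv, hav, smul_smul]
      have hρ' : h.shW w (s • a) w = w := by simp [shW_apply, hp.ww, haw]
      obtain ⟨k, hk, ek⟩ := act_sh hG hp.ww hs
      refine hmem.conj hk fun T => ?_
      simp only [lg, LinearMap.add_apply, LinearMap.sub_apply, map_add, map_sub, P_act hG.le hk ek, hρ, hρ']
    have hvw : h.gW v w = 0 := by rw [h.g_sym, hp.wv]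
    have hmul : ∀ s t : F, (h.P (v + s • w) (v + s • w) G2 + h.lg w (v + s • w) D) *
        (h.P (v + t • w) (v + t • w) G2 + h.lg w (v + t • w) D) = 0 := fun s t => LinearMap.ext fun T => by
      simp [lg, P_apply, Module.End.mul_apply, hp.ww, hp.vv, hp.wv, hvw]
    have := ((hmv 1).add (hmv (-1)) (hmul _ _)).add ((hmv 0).neg (hmul _ _) |> fun hn => hn.add hn
      (by rw [neg_mul_neg, hmul])) (by rw [add_mul, mul_add, mul_add, mul_neg, mul_neg, hmul, hmul]; simp)
    have h2G : In M (h.P w w ((2 : F) • G2)) := by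
      refine Eq.subst (motive := fun X => In M X) (LinearMap.ext fun T => ?_) this
      simp [lg, P_apply, e2]
      module
    obtain ⟨s, hs⟩ := hS _ (InD.of_pww hG h5 (by rw [adj_smul, e2, smul_neg]) hp.w0 hp.ww h2G)
    have h' := congrArg h.adj hs
    rw [adj_smul, adj_smul, e2, adj_one, smul_neg, hs] at h'
    obtain ⟨u, hu⟩ := exists_ne (0 : U)
    have h'' := LinearMap.congr_fun h' u
    simp only [LinearMap.neg_apply, LinearMap.smul_apply, Module.End.one_apply] at h''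
    have : (2 * s) • u = 0 := by rw [two_mul, add_smul]; nth_rewrite 1 [← h'']; abel
    have hs0 := (mul_eq_zero.1 ((smul_eq_zero.1 this).resolve_right hu)).resolve_left h2
    rw [hs0, zero_smul] at hs
    exact (smul_eq_zero.1 hs).resolve_left h2
  rw [hG20, show h.P v v 0 = 0 from LinearMap.ext fun T => by simp [P_apply], zero_add] at hmem hX'
  obtain ⟨s, hs⟩ := hS D (InD.of_pair hG h5 hp.w0 hp.ww hp.wv hp.vv hp.vn hmem)
  exact ⟨s, by rw [hX', hs]⟩

/-- The components of a radical element are scalars. -/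
theorem RadTwo.scalar {w v w' v' : W} (hp : h.IsoPair w v w' v') {X : Module.End F V} (hX : h.RadTwo M w v X)
    {b : W} (hwb : h.gW w b = 0) (hvb : h.gW v b = 0) {Dw Dv : Module.End F U}
    (hD : ∀ u, X (h.tp u b) = h.tp (Dw u) w + h.tp (Dv u) v) : ∃ s : F, Dv = s • 1 := by
  have hbX := hX.c_apply hG hp hwb hvb hD
  have hXY : X * h.sh w b 1 = - h.P w w Dw - h.P v w Dv := LinearMap.ext fun T => by
    simp [sh_apply, P_apply, hX.hAw, hD]
    abel
  have hYX : h.sh w b 1 * X = - h.P w w (h.adj Dw) - h.P w v (h.adj Dv) := LinearMap.ext fun T => by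
    simp [sh_apply, P_apply, hbX, hX.hVw]
  have hvw : h.gW v w = 0 := by rw [h.g_sym, hp.wv]
  have := in_comm hX.mem (in_sh hG hp.ww hwb)
    (by rw [hXY]; exact LinearMap.ext fun T => by simp [P_apply, hX.hVw])
    (by rw [hYX]; exact LinearMap.ext fun T => by simp [P_apply, hX.hVw, hX.hVv])
    (by rw [hXY, hYX]; exact LinearMap.ext fun T => by simp [P_apply, sh_apply, hp.ww, hp.vv, hwb, hvb, hvw, hp.wv])
  rw [hXY, hYX] at this
  have hC : h.RadTwo M w v (-h.P w w Dw - h.P v w Dv - (-h.P w w (h.adj Dw) - h.P w v (h.adj Dv))) := by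
    refine ⟨this, fun u => ?_, fun u => ?_, fun u y x h1 h2 h3 h4 => ?_, fun T => ?_, fun T => ?_⟩
    all_goals simp [P_apply, hp.ww, hp.vv, hp.wv, hvw]
    simp [h1, h2]
  obtain ⟨s, hs⟩ := hC.center hG h5 hS hp (fun u y h1 h2 => by simp [P_apply, h1, h2])
  refine ⟨s, ?_⟩
  have e : h.adj Dv = s • 1 := LinearMap.ext fun u => h.tp_injective hp.w0 (by
    have := LinearMap.congr_fun hs (h.tp u v')
    simp [lg, P_apply, hp.wv', hp.vv'] at this
    simpa using this)
  rw [← h.adj_adj Dv, e, adj_smul, adj_one]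

/-- A radical element acts on the second factor only. -/
theorem RadTwo.act {w v w' v' : W} (hp : h.IsoPair w v w' v') {g : V ≃ₗ[F] V} (hg : g ∈ M)
    (hX : h.RadTwo M w v (g.toLinearMap - 1)) : ∃ ρ : Module.End F W, ∀ u y, g (h.tp u y) = h.tp u (ρ y) := by
  set X : Module.End F V := g.toLinearMap - 1 with hXdef
  obtain ⟨u₀, hu₀⟩ := exists_ne (0 : U)
  obtain ⟨a₀, ha₀⟩ := h.fN.exists_one hu₀
  let π : W →ₗ[F] W := 1 - (h.gW w).smulRight w' - (h.gW v).smulRight v'
  have hπ : ∀ y, π y = y - h.gW w y • w' - h.gW v y • v' := fun y => rfl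
  let Λ : W → Module.Dual F W := fun p => h.fU a₀ ∘ₗ h.c p ∘ₗ X ∘ₗ h.tp u₀ ∘ₗ π
  obtain ⟨b₁, hb₁⟩ : ∃ b, ∀ y, h.gW b y = Λ w' y :=
    ⟨(h.gW.toDual h.gN.nd).symm (Λ w'), fun y => LinearMap.BilinForm.apply_toDual_symm_apply (Λ w') y⟩
  obtain ⟨b₂, hb₂⟩ : ∃ b, ∀ y, h.gW b y = Λ v' y :=
    ⟨(h.gW.toDual h.gN.nd).symm (Λ v'), fun y => LinearMap.BilinForm.apply_toDual_symm_apply (Λ v') y⟩
  have hL : ∀ p, Λ p w = 0 ∧ Λ p v = 0 := fun p => by
    have hvw : h.gW v w = 0 := by rw [h.g_sym, hp.wv]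
    constructor <;> simp [Λ, hπ, hp.ww, hp.vv, hp.wv, hvw, hX.hAw, hX.hAv]
  have hw1 : h.gW w b₁ = 0 := by rw [h.g_sym, hb₁]; exact (hL _).1
  have hv1 : h.gW v b₁ = 0 := by rw [h.g_sym, hb₁]; exact (hL _).2
  have hw2 : h.gW w b₂ = 0 := by rw [h.g_sym, hb₂]; exact (hL _).1
  have hv2 : h.gW v b₂ = 0 := by rw [h.g_sym, hb₂]; exact (hL _).2
  have hval : ∀ y, h.gW w y = 0 → h.gW v y = 0 → ∀ u,
      X (h.tp u y) = h.tp u (h.gW b₁ y • w + h.gW b₂ y • v) := fun y hwy hvy u => by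
    have hd : ∀ u, X (h.tp u y) = h.tp ((h.c w' ∘ₗ X ∘ₗ h.tp.flip y) u) w + h.tp ((h.c v' ∘ₗ X ∘ₗ h.tp.flip y) u) v :=
      fun u => eq_pair_decomp hp fun x hx1 hx2 => hX.hP u y x hwy hvy hx1 hx2
    obtain ⟨s, hs⟩ := hX.scalar hG h5 hS hp hwy hvy hd
    obtain ⟨t, ht⟩ := hX.swap.scalar hG h5 hS hp.swap hvy hwy (fun u => by rw [hd u, add_comm])
    have e1 : h.gW b₁ y = t := by
      rw [hb₁]
      show h.fU a₀ (h.c w' (X (h.tp u₀ (π y)))) = t
      rw [hπ, hwy, hvy, zero_smul, zero_smul, sub_zero, sub_zero]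
      have := LinearMap.congr_fun ht u₀
      simp only [LinearMap.comp_apply, LinearMap.flip_apply] at this
      rw [this, LinearMap.smul_apply, Module.End.one_apply, map_smul, ha₀, smul_eq_mul, mul_one]
    have e2 : h.gW b₂ y = s := by
      rw [hb₂]
      show h.fU a₀ (h.c v' (X (h.tp u₀ (π y)))) = s
      rw [hπ, hwy, hvy, zero_smul, zero_smul, sub_zero, sub_zero]
      have := LinearMap.congr_fun hs u₀
      simp only [LinearMap.comp_apply, LinearMap.flip_apply] at this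
      rw [this, LinearMap.smul_apply, Module.End.one_apply, map_smul, ha₀, smul_eq_mul, mul_one]
    rw [hd u, hs, ht, e1, e2]
    simp
  have hn1 : h.gW w (-b₁) = 0 := by rw [map_neg, hw1, neg_zero]
  have hn2 : h.gW v (-b₂) = 0 := by rw [map_neg, hv2, neg_zero]
  obtain ⟨k₁, hk₁, ek₁⟩ := act_sh hG hp.ww hn1
  obtain ⟨k₂, hk₂, ek₂⟩ := act_sh hG hp.vv hn2
  have hvw : h.gW v w = 0 := by rw [h.g_sym, hp.wv]
  set ρ₀ : Module.End F W := h.shW v (-b₂) * h.shW w (-b₁) with hρ₀
  have ek : ∀ u y, (k₂ * k₁) (h.tp u y) = h.tp u (ρ₀ y) := fun u y => by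
    show k₂ (k₁ (h.tp u y)) = _
    rw [ek₁, ek₂]; rfl
  have hρw : ρ₀ w = w := by
    simp [hρ₀, shW_apply, Module.End.mul_apply, hp.ww, hvw, h.g_sym b₁ w, hw1, h.g_sym b₂ w, hw2]
  have hρv : ρ₀ v = v := by
    simp [hρ₀, shW_apply, Module.End.mul_apply, hp.vv, hp.wv, h.g_sym b₁ v, hv1, h.g_sym b₂ v, hv2]
  set G : V ≃ₗ[F] V := k₂ * k₁ * g with hGdef
  have hkm : k₂ * k₁ ∈ M := mul_mem hk₂ hk₁
  have hgX : ∀ T, g T = T + X T := fun T => by simp [hXdef]
  have hGX : ∀ T, (G.toLinearMap - 1) T = (k₂ * k₁) (g T) - T := fun T => rfl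
  have h0 : ∀ u y, h.gW w y = 0 → h.gW v y = 0 → (G.toLinearMap - 1) (h.tp u y) = 0 := fun u y hwy hvy => by
    rw [hGX, hgX, hval y hwy hvy, ← map_add, ek, ← map_sub]
    have : ρ₀ (y + (h.gW b₁ y • w + h.gW b₂ y • v)) - y = 0 := by
      rw [map_add, map_add, map_smul, map_smul, hρw, hρv]
      have : ρ₀ y = y - h.gW b₁ y • w - h.gW b₂ y • v := by
        simp [hρ₀, shW_apply, Module.End.mul_apply, hwy, hvy, hvw, h.g_sym b₂ w, hw2]
        module
      rw [this]
      abel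
    rw [this, map_zero]
  have hR : h.RadTwo M w v (G.toLinearMap - 1) := by
    refine ⟨⟨G, mul_mem hkm hg, fun T => by simp⟩, fun u => h0 u w hp.ww hvw, fun u => h0 u v hp.wv hp.vv,
      fun u y x h1 h2 h3 h4 => by rw [h0 u y h1 h2, map_zero], fun T => ?_, fun T => ?_⟩
    · rw [hGX, map_sub, ← hρw, c_act hG.le hkm ek, hρw, hgX, map_add, hX.hVw, add_zero, sub_self]
    · rw [hGX, map_sub, ← hρv, c_act hG.le hkm ek, hρv, hgX, map_add, hX.hVv, add_zero, sub_self]
  obtain ⟨s, hs⟩ := hR.center hG h5 hS hp h0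
  obtain ⟨k₃, hk₃, ek₃⟩ := act_sh hG hp.ww (show h.gW w (s • v) = 0 by rw [map_smul, hp.wv, smul_zero])
  have hGk : ∀ u y, G (h.tp u y) = h.tp u (h.shW w (s • v) y) := fun u y => by
    have e := LinearMap.congr_fun hs (h.tp u y)
    rw [← h.sh_iso hp.vv, ← h.sh_smul, sh_one_tp] at e
    simp only [LinearMap.sub_apply, LinearEquiv.coe_coe, Module.End.one_apply, sub_eq_iff_eq_add] at e
    rw [e, shW_apply, ← map_add]
    congr 1
    module
  have hi : Function.Injective ρ₀ := fun y y' e => h.swap.tp_injective hu₀ (show h.tp u₀ y = h.tp u₀ y' from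
    (k₂ * k₁).injective (by rw [ek, ek, e]))
  refine ⟨(LinearEquiv.ofInjectiveEndo ρ₀ hi).symm.toLinearMap * h.shW w (s • v), fun u y => (k₂ * k₁).injective ?_⟩
  rw [ek]
  show G (h.tp u y) = _
  rw [hGk]
  congr 1
  exact ((LinearEquiv.ofInjectiveEndo ρ₀ hi).apply_symm_apply _).symm

/-- An element carrying one long element to a multiple of another is a product. -/
theorem pure_of_pair {w v w' v' x z x' z' : W} (hp : h.IsoPair w v w' v') (hq : h.IsoPair x z x' z') {k : V ≃ₗ[F] V}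
    (hk : k ∈ M) {t : F} (ht : t ≠ 0) (e : ∀ T, k (h.lg w v 1 T) = t • h.lg x z 1 (k T)) : h.Pure k := by
  have hlg : ∀ p q T, h.lg p q 1 T = h.tp (h.c q T) p - h.tp (h.c p T) q := fun p q T => by
    simp [lg, P_apply]
  have hker : ∀ T, h.c x (k T) = 0 ∧ h.c z (k T) = 0 ↔ h.c w T = 0 ∧ h.c v T = 0 := by
    have crit : ∀ {p q p' q' : W}, h.IsoPair p q p' q' → ∀ T, h.lg p q 1 T = 0 ↔ h.c p T = 0 ∧ h.c q T = 0 := by
      intro p q p' q' hr T
      rw [hlg]
      constructor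
      · intro he
        refine ⟨?_, ?_⟩
        · have := congrArg (h.c q') he
          simpa [h.g_sym q' p, hr.wv', h.g_sym q' q, hr.vv'] using this
        · have := congrArg (h.c p') he
          simpa [h.g_sym p' p, hr.ww', h.g_sym p' q, hr.vw'] using this
      · rintro ⟨a, b⟩; simp [a, b]
    intro T
    rw [← crit hp, ← crit hq, ← k.map_eq_zero_iff (x := h.lg w v 1 T), e, smul_eq_zero, or_iff_right ht]
  have himg : ∀ u y p, (y = w ∨ y = v) → h.gW x p = 0 → h.gW z p = 0 → h.c p (k (h.tp u y)) = 0 := by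
    intro u y p hy h1 h2
    obtain ⟨S, hS'⟩ : ∃ S, h.lg w v 1 S = h.tp u y := by
      rcases hy with rfl | rfl
      · exact ⟨h.tp u v', by simp [hlg, hp.wv', hp.vv']⟩
      · exact ⟨h.tp (-u) w', by simp [hlg, hp.ww', hp.vw']⟩
    rw [← hS', e, hlg]
    simp [h.g_sym p x, h1, h.g_sym p z, h2]
  obtain ⟨b, hwb, hvb, hbb⟩ := h.gN.exists_aniso_perp_two h5 w v
  obtain ⟨l, hl, el⟩ := in_sh hG hp.ww hwb
  set G : V ≃ₗ[F] V := k * l * k⁻¹ with hGdef
  have hX : ∀ T, (G.toLinearMap - 1) T = k (h.sh w b 1 (k.symm T)) := fun T => by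
    show k (l (k.symm T)) - T = _
    rw [el, map_add, k.apply_symm_apply, add_sub_cancel_left]
  have hsv : h.gW v w = 0 := by rw [h.g_sym, hp.wv]
  have hsh0 : ∀ S, (∀ p, h.gW w p = 0 → h.gW v p = 0 → h.c p S = 0) → h.sh w b 1 S = 0 := fun S hS0 => by
    simp [sh_apply, hS0 b hwb hvb, hS0 w hp.ww hsv]
  have hback : ∀ u y, (y = x ∨ y = z) → ∀ p, h.gW w p = 0 → h.gW v p = 0 → h.c p (k.symm (h.tp u y)) = 0 := by
    intro u y hy p h1 h2
    refine h.ext_f fun a => ?_
    rw [h.pol_c, map_zero, ← orth_polar (hG.le hk), k.apply_symm_apply, h.polar_tp']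
    have := (hker (h.tp a p)).2 ⟨by rw [h.c_tp, h1, zero_smul], by rw [h.c_tp, h2, zero_smul]⟩
    rcases hy with rfl | rfl
    · rw [this.1, map_zero]
    · rw [this.2, map_zero]
  have hR : h.RadTwo M x z (G.toLinearMap - 1) := by
    refine ⟨⟨G, mul_mem (mul_mem hk hl) (inv_mem hk), fun T => by simp⟩, fun u => ?_, fun u => ?_,
      fun u y p h1 h2 h3 h4 => ?_, fun T => ?_, fun T => ?_⟩
    · rw [hX, hsh0 _ (hback u x (Or.inl rfl)), map_zero]
    · rw [hX, hsh0 _ (hback u z (Or.inr rfl)), map_zero]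
    · rw [hX]
      have h0 := (hker (k.symm (h.tp u y))).1 (by
        rw [k.apply_symm_apply, h.c_tp, h.c_tp, h1, h2, zero_smul]; exact ⟨rfl, rfl⟩)
      rw [sh_apply, h0.1]
      simp [himg _ w p (Or.inl rfl) h3 h4]
    · rw [hX]
      exact ((hker _).2 ⟨by simp [sh_apply, hp.ww, hwb], by simp [sh_apply, hsv, hvb]⟩).1
    · rw [hX]
      exact ((hker _).2 ⟨by simp [sh_apply, hp.ww, hwb], by simp [sh_apply, hsv, hvb]⟩).2
  obtain ⟨ρ, hρ⟩ : ∃ ρ : Module.End F W, ∀ u y, G (h.tp u y) = h.tp u (ρ y) :=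
    hR.act hG h5 hS hq (mul_mem (mul_mem hk hl) (inv_mem hk))
  have hσ : ∀ u y, (G.toLinearMap - 1) ((G.toLinearMap - 1) (h.tp u y)) = h.tp u ((ρ - 1) ((ρ - 1) y)) :=
    fun u y => by simp [hρ]
  have hsq : ∀ T, (G.toLinearMap - 1) ((G.toLinearMap - 1) T) =
      k (-(h.gW b b • h.tp (h.c w (k.symm T)) w)) := fun T => by
    rw [hX, hX, k.symm_apply_apply]
    congr 1
    have := LinearMap.congr_fun (h.sh_mul hp.ww hwb hwb 1) (k.symm T)
    simpa [Module.End.mul_apply, P_apply] using this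
  obtain ⟨y₀, hy₀⟩ : ∃ y, (ρ - 1) ((ρ - 1) y) ≠ 0 := by
    by_contra hno
    push Not at hno
    obtain ⟨u, hu⟩ := exists_ne (0 : U)
    have hz : ((G.toLinearMap - 1) ∘ₗ (G.toLinearMap - 1) : Module.End F V) = 0 := h.ext_tp fun a y => by
      rw [LinearMap.comp_apply, hσ, hno, map_zero]; rfl
    have := LinearMap.congr_fun hz (k (h.tp u w'))
    rw [LinearMap.comp_apply, hsq, k.symm_apply_apply, h.c_tp, hp.ww', one_smul, LinearMap.zero_apply,
      LinearEquiv.map_eq_zero_iff, neg_eq_zero, smul_eq_zero, or_iff_right hbb] at this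
    exact h.tp_ne_zero hu hp.w0 this
  set y₁ := (ρ - 1) ((ρ - 1) y₀)
  have hle : h.A y₁ ≤ (h.A w).map k.toLinearMap := by
    rintro _ ⟨u, rfl⟩
    rw [LinearMap.flip_apply, ← hσ, hsq]
    exact Submodule.mem_map_of_mem (Submodule.neg_mem _ (Submodule.smul_mem _ _ (h.tp_mem_A _ _)))
  have heq := Submodule.eq_of_le_of_finrank_le hle (by
    rw [h.finrank_A hy₀]; exact (Submodule.finrank_map_le _ _).trans (h.finrank_A hp.w0).le)
  have hy1 : h.gW y₁ y₁ = 0 := by
    obtain ⟨a, ha⟩ := h.fN.exists_aniso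
    obtain ⟨_, ⟨p, rfl⟩, hp'⟩ := hle (h.tp_mem_A a y₁)
    have := h.pol a a y₁ y₁
    rw [← hp', LinearEquiv.coe_coe, LinearMap.flip_apply, orth_polar (hG.le hk), h.pol, hp.ww, mul_zero] at this
    exact (mul_eq_zero.1 this.symm).resolve_left ha
  exact pure_of_member hG h5 hS hk hp.w0 hp.ww hy₀ hy1 fun u => heq ▸ Submodule.mem_map_of_mem (h.tp_mem_A u w)

end TData

end CfsgLib.TensorOO
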